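import Cfsg.Agent.Lib.UnitReg.Engine

/-!
# Regular elements given by a chain of vectors
-/

set_option autoImplicit false
set_option linter.unusedSectionVars false

namespace CfsgLib.UnitReg

open Matrix CfsgLib.UnitaryTransvection CfsgLib.UnitarySimple CfsgLib.TwoGenCl.Unit

variable {F : Type*} [Field F] [Fintype F] {q n : ℕ} (hF : Fintype.card F = q ^ 2)

local notation "h" => Cfsg.hermForm n F q
local notation "σ" => frob hF

/-- The span of the vectors of a chain from a position on. -/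
def chainL {V : Type*} [AddCommGroup V] [Module F V] (w : ℕ → V) (j : ℕ) : Submodule F V :=
  Submodule.span F (w '' {i | j ≤ i})

/-- A regular element with a chain adapted to it. -/
structure Data (u : Cfsg.SU n F q) (e φ P : Fin n → F) where
  w : ℕ → (Fin n → F)
  c : ℕ → F
  i0 : ℕ
  hn : 3 ≤ n
  czero : ∀ i, n ≤ i → w i = 0
  span : chainL (F := F) w 0 = ⊤
  step : ∀ i, dk u (w i) - c i • w (i + 1) ∈ chainL (F := F) w (i + 2)
  cne : ∀ i, c i ≠ 0
  cfix : ∀ i, σ (c i) = c i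
  first : w 0 = φ
  pen : w (n - 2) = P
  last : w (n - 1) = e
  phie : h φ e = 1
  phiphi : h φ φ = 0
  phiP : h φ P = 0
  orth : ∀ i, 1 ≤ i → h (w i) e = 0
  orthP : ∀ i, 2 ≤ i → h (w i) P = 0
  oneP : h (w 1) P = 1
  i0_pos : 1 ≤ i0
  i0_le : i0 + 2 ≤ n
  aniso : h (w i0) (w i0) = 1
  small : i0 = 1 → n = 3 ∧ ∃ s, mat u = umat (q := q) e P s
  trne : h (mat u *ᵥ φ) φ + σ (h (mat u *ᵥ φ) φ) ≠ 0

variable {u : Cfsg.SU n F q} {e φ P : Fin n → F}

namespace Data

variable (D : Data hF u e φ P)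
include D

theorem mem_L {i j : ℕ} (hij : j ≤ i) : D.w i ∈ chainL (F := F) D.w j := Submodule.subset_span ⟨i, hij, rfl⟩

theorem L_anti {i j : ℕ} (hij : j ≤ i) : chainL (F := F) D.w i ≤ chainL (F := F) D.w j :=
  Submodule.span_mono (Set.image_mono fun _ hk => le_trans hij hk)

theorem L_bot {j : ℕ} (hj : n ≤ j) : chainL (F := F) D.w j = ⊥ := by
  rw [chainL, Submodule.span_eq_bot]
  rintro _ ⟨i, hi, rfl⟩
  exact D.czero i (le_trans hj hi)

theorem dk_w (i : ℕ) : dk u (D.w i) ∈ chainL (F := F) D.w (i + 1) := by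
  have := (chainL (F := F) D.w (i + 1)).add_mem (D.L_anti hF (Nat.le_succ (i + 1)) (D.step i))
    ((chainL (F := F) D.w (i + 1)).smul_mem (D.c i) (D.mem_L hF (le_refl (i + 1))))
  rwa [sub_add_cancel] at this

theorem dk_L {j : ℕ} {x : Fin n → F} (hx : x ∈ chainL (F := F) D.w j) : dk u x ∈ chainL (F := F) D.w (j + 1) := by
  have : chainL (F := F) D.w j ≤ (chainL (F := F) D.w (j + 1)).comap (dk u) := by
    rw [chainL, Submodule.span_le]
    rintro _ ⟨i, hi, rfl⟩
    exact D.L_anti hF (Nat.succ_le_succ hi) (D.dk_w hF i)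
  exact this hx

theorem iter_L (k : ℕ) {j : ℕ} {x : Fin n → F} (hx : x ∈ chainL (F := F) D.w j) :
    (dk u ^ k) x ∈ chainL (F := F) D.w (j + k) := by
  induction k with
  | zero => simpa using hx
  | succ k ih => rw [pow_succ', Module.End.mul_apply, ← add_assoc]; exact D.dk_L hF ih

theorem iter_w (j k : ℕ) : ∃ r : F, r ≠ 0 ∧ σ r = r ∧
    (dk u ^ k) (D.w j) - r • D.w (j + k) ∈ chainL (F := F) D.w (j + k + 1) := by
  induction k with
  | zero => exact ⟨1, one_ne_zero, map_one σ, by simp⟩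
  | succ k ih =>
    obtain ⟨r, hr0, hrs, hr⟩ := ih
    refine ⟨r * D.c (j + k), mul_ne_zero hr0 (D.cne _), by rw [map_mul, hrs, D.cfix], ?_⟩
    have h1 := D.dk_L hF hr
    have h2 := (chainL (F := F) D.w (j + k + 2)).smul_mem r (D.step (j + k))
    rw [map_sub, map_smul] at h1
    have := (chainL (F := F) D.w (j + k + 2)).add_mem h1 h2
    rw [pow_succ', Module.End.mul_apply, ← add_assoc, mul_smul]
    rwa [smul_sub, sub_add_sub_cancel] at this

theorem L_succ (j : ℕ) {x : Fin n → F} (hx : x ∈ chainL (F := F) D.w (j + 1)) :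
    ∃ z ∈ chainL (F := F) D.w j, x = dk u z := by
  have key : ∀ k j, n ≤ j + k → chainL (F := F) D.w (j + 1) ≤ (chainL (F := F) D.w j).map (dk u) := by
    intro k
    induction k with
    | zero => intro j hj; rw [D.L_bot hF (by omega)]; exact bot_le
    | succ k ih =>
      intro j hj
      have h1 : chainL (F := F) D.w (j + 2) ≤ (chainL (F := F) D.w j).map (dk u) :=
        (ih (j + 1) (by omega)).trans (Submodule.map_mono (D.L_anti hF (Nat.le_succ j)))
      rw [chainL, Submodule.span_le]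
      rintro _ ⟨i, hi, rfl⟩
      rcases Nat.eq_or_lt_of_le hi with hi' | hi'
      · subst hi'
        have h2 : dk u (D.w j) ∈ (chainL (F := F) D.w j).map (dk u) := ⟨_, D.mem_L hF le_rfl, rfl⟩
        have h3 := Submodule.sub_mem _ h2 (h1 (D.step j))
        rw [sub_sub_cancel] at h3
        have h4 := Submodule.smul_mem _ (D.c j)⁻¹ h3
        rwa [smul_smul, inv_mul_cancel₀ (D.cne j), one_smul] at h4
      · exact h1 (D.mem_L hF hi')
  obtain ⟨z, hz, rfl⟩ := key n j (Nat.le_add_left n j) hx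
  exact ⟨z, hz, rfl⟩

theorem split (j : ℕ) {x : Fin n → F} (hx : x ∈ chainL (F := F) D.w j) :
    ∃ a : F, x - a • D.w j ∈ chainL (F := F) D.w (j + 1) := by
  have : chainL (F := F) D.w j ≤ Submodule.span F {D.w j} ⊔ chainL (F := F) D.w (j + 1) := by
    rw [chainL, Submodule.span_le]
    rintro _ ⟨i, hi, rfl⟩
    rcases Nat.eq_or_lt_of_le hi with hi' | hi'
    · subst hi'; exact Submodule.mem_sup_left (Submodule.mem_span_singleton_self _)
    · exact Submodule.mem_sup_right (D.mem_L hF hi')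
  obtain ⟨y, hy, z, hz, e'⟩ := Submodule.mem_sup.1 (this hx)
  obtain ⟨a, rfl⟩ := Submodule.mem_span_singleton.1 hy
  exact ⟨a, by rwa [← e', add_sub_cancel_left]⟩

theorem h_L {j : ℕ} {y : Fin n → F} (hw : ∀ i, j ≤ i → h (D.w i) y = 0) {x : Fin n → F}
    (hx : x ∈ chainL (F := F) D.w j) : h x y = 0 := by
  induction hx using Submodule.span_induction with
  | mem x hx => obtain ⟨i, hi, rfl⟩ := hx; exact hw i hi
  | zero => exact h_zero_left y
  | add a b _ _ ha hb => rw [h_add_left, ha, hb, add_zero]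
  | smul r a _ ha => rw [h_smul_left, ha, mul_zero]

theorem L_one {x : Fin n → F} (hx : h x e = 0) : x ∈ chainL (F := F) D.w 1 := by
  obtain ⟨a, ha⟩ := D.split hF 0 (show x ∈ chainL (F := F) D.w 0 by rw [D.span]; trivial)
  have := D.h_L hF D.orth ha
  rw [h_sub_left, h_smul_left, hx, D.first, D.phie, mul_one, zero_sub, neg_eq_zero] at this
  rwa [this, zero_smul, sub_zero] at ha

theorem L_two {x : Fin n → F} (hx : h x e = 0) : x - h x P • D.w 1 ∈ chainL (F := F) D.w 2 := by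
  obtain ⟨a, ha⟩ := D.split hF 1 (D.L_one hF hx)
  have := D.h_L hF D.orthP ha
  rw [h_sub_left, h_smul_left, D.oneP, mul_one, sub_eq_zero] at this
  rwa [this]

/-- Displacements of the kernel of the top functional. -/
theorem range_two {x : Fin n → F} (hxe : h x e = 0) (hxP : h x P = 0) :
    ∃ z, x = dk u (dk u z) := by
  have hx := D.L_two hF hxe
  rw [hxP, zero_smul, sub_zero] at hx
  obtain ⟨z, hz, rfl⟩ := D.L_succ hF 1 hx
  obtain ⟨z', -, rfl⟩ := D.L_succ hF 0 hz
  exact ⟨z', rfl⟩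

theorem nil (z : Fin n → F) : (dk u ^ n) z = 0 := by
  have := D.iter_L hF n (show z ∈ chainL (F := F) D.w 0 by rw [D.span]; trivial)
  rw [D.L_bot hF (by omega)] at this
  exact (Submodule.mem_bot F).1 this

theorem regular : (mat u - 1) ^ n = 0 ∧ (mat u - 1) ^ (n - 1) ≠ 0 := by
  have e1 : ∀ (k : ℕ) (x : Fin n → F), (dk u ^ k) x = (mat u - 1) ^ k *ᵥ x := fun k => by
    induction k with
    | zero => intro x; simp
    | succ k ih =>
      intro x
      rw [pow_succ', Module.End.mul_apply, ih, pow_succ', ← mulVec_mulVec]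
      rfl
  refine ⟨Matrix.ext_of_mulVec_single fun i => by rw [← e1, D.nil hF, Matrix.zero_mulVec], fun h0 => ?_⟩
  obtain ⟨r, hr0, -, hr⟩ := D.iter_w hF 0 (n - 1)
  rw [e1, h0, Matrix.zero_mulVec, zero_sub, zero_add, D.L_bot hF (by have := D.hn; omega), Submodule.mem_bot,
    neg_eq_zero, D.last] at hr
  have := D.phie
  rw [(smul_eq_zero.1 hr).resolve_left hr0, h_zero_right hF] at this
  exact zero_ne_one this

theorem exists_smul_e {x : Fin n → F} (hx : x ∈ chainL (F := F) D.w (n - 1)) : ∃ r : F, x = r • e := by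
  obtain ⟨a, ha⟩ := D.split hF _ hx
  rw [D.L_bot hF (by have := D.hn; omega), Submodule.mem_bot, sub_eq_zero, D.last] at ha
  exact ⟨a, ha⟩

theorem fix : mat u *ᵥ e = e := by
  have := D.dk_w hF (n - 1)
  rw [D.L_bot hF (by have := D.hn; omega), Submodule.mem_bot, dk_apply, D.last, sub_eq_zero] at this
  exact this

theorem pen_step : ∃ τ : F, τ ≠ 0 ∧ σ τ = τ ∧ dk u P = τ • e := by
  have hn := D.hn
  refine ⟨D.c (n - 2), D.cne _, D.cfix _, ?_⟩
  have := D.step (n - 2)
  rw [D.L_bot hF (by omega), Submodule.mem_bot, D.pen, show n - 2 + 1 = n - 1 by omega, D.last, sub_eq_zero] at this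
  exact this

/-- The top functional as an iterated displacement. -/
theorem mid : ∃ (m : ℕ) (r : F), r ≠ 0 ∧ σ r = r ∧
    ∀ a, h a e = 0 → ∃ x : F, (dk u ^ m) a = (r * h a P) • P + x • e := by
  have hn := D.hn
  obtain ⟨r, hr0, hrs, hr⟩ := D.iter_w hF 1 (n - 3)
  rw [show 1 + (n - 3) = n - 2 by omega, D.pen, show n - 2 + 1 = n - 1 by omega] at hr
  refine ⟨n - 3, r, hr0, hrs, fun a ha => ?_⟩
  have h1 := D.iter_L hF (n - 3) (D.L_two hF ha)
  rw [show 2 + (n - 3) = n - 1 by omega, map_sub, map_smul] at h1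
  have h2 := Submodule.add_mem _ h1 (Submodule.smul_mem _ (h a P) hr)
  rw [smul_sub, sub_add_sub_cancel, smul_smul, mul_comm] at h2
  obtain ⟨x, hx⟩ := D.exists_smul_e hF h2
  exact ⟨x, by rw [← hx]; abel⟩

/-- An anisotropic displacement and the long root it leads to. -/
theorem seed_data (hi : 2 ≤ D.i0) : ∃ (a0 : Fin n → F) (j : ℕ) (r : F), h a0 e = 0 ∧ r ≠ 0 ∧ σ r = r ∧
    dk u a0 = D.w D.i0 ∧ dk u ((dk u ^ j) (dk u a0)) = r • e := by
  have hn := D.hn
  have hle := D.i0_le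
  obtain ⟨a0, ha, he⟩ := D.L_succ hF (D.i0 - 1) (x := D.w D.i0) (D.mem_L hF (by omega))
  refine ⟨a0, n - 2 - D.i0, ?_⟩
  obtain ⟨r, hr0, hrs, hr⟩ := D.iter_w hF D.i0 (n - 2 - D.i0 + 1)
  rw [show D.i0 + (n - 2 - D.i0 + 1) = n - 1 by omega, D.L_bot hF (by omega), Submodule.mem_bot, D.last,
    sub_eq_zero, pow_succ', Module.End.mul_apply] at hr
  exact ⟨r, D.h_L hF (fun i hi' => D.orth i (by omega)) ha, hr0, hrs, he.symm, by rw [← he]; exact hr⟩

end Data

end CfsgLib.UnitReg
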