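import Cfsg.Agent.Lib.UnitReg.Plane

/-!
# Components produced by planes and by a regular element
-/

set_option autoImplicit false
set_option linter.unusedSectionVars false

namespace CfsgLib.UnitReg

open Matrix CfsgLib.UnitaryTransvection CfsgLib.UnitarySimple CfsgLib.TwoGenCl.Unit
open CfsgLib.Dickson (up lo)

variable {F : Type*} [Field F] [Fintype F] {q n : ℕ} (hF : Fintype.card F = q ^ 2)

local notation "h" => Cfsg.hermForm n F q
local notation "σ" => frob hF

variable {M : Subgroup (Cfsg.SU n F q)} {e y z b : Fin n → F} {d d' : F}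

/-- The displacement of an element. -/
def dk (g : Cfsg.SU n F q) : (Fin n → F) →ₗ[F] (Fin n → F) := Matrix.mulVecLin (mat g - 1)

theorem dk_apply (g : Cfsg.SU n F q) (x : Fin n → F) : dk g x = mat g *ᵥ x - x := by
  simp [dk, Matrix.sub_mulVec]

include hF in
/-- A unipotent element of the stabilizer of `e` gives a component. -/
theorem adm_of_fix (P : Pair hF e y d) {g : Cfsg.SU n F q} (hg : g ∈ M) (hge : mat g *ᵥ e = e)
    (hgx : ∀ x, h x e = 0 → ∃ c : F, mat g *ᵥ x = x + c • e) : Adm hF M e (mat g *ᵥ y - y) := by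
  set a := mat g *ᵥ y - y
  have hgy : mat g *ᵥ y = y + a := (add_sub_cancel y _).symm
  have hea : h a e = 0 := by
    have := su_h g y e
    rw [hge, hgy, h_add_left] at this
    exact add_eq_left.1 this
  have hs : h a a + h y a + σ (h y a) = 0 := by
    have := su_h g y y
    rw [hgy, P.yy, h_add_left, h_add_right hF, h_add_right hF, P.yy, ← h_swap hF y a] at this
    linear_combination this
  refine ⟨hea, h y a, hs, um_of_mem ?_ hg⟩
  rw [um_eq hF]
  intro x
  have hx : x = (x - h x e • y) + h x e • y := (sub_add_cancel _ _).symm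
  have hx0 : h (x - h x e • y) e = 0 := by rw [h_sub_left, h_smul_left, P.ye, mul_one, sub_self]
  obtain ⟨c, hc⟩ := hgx _ hx0
  have hcv : c = -h (x - h x e • y) a := by
    have := su_h g (x - h x e • y) y
    rw [hc, hgy, h_add_left, h_add_right hF, h_smul_left, h_add_right hF, P.ey hF, h_symm_zero hF hea] at this
    linear_combination this
  conv_lhs => rw [hx, mulVec_add, mulVec_smul, hc, hgy, hcv, h_sub_left, h_smul_left]
  module

/-- The plane element scaling by a fixed scalar. -/
def HasSc (M : Subgroup (Cfsg.SU n F q)) (e y : Fin n → F) (t : F) : Prop :=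
  ∃ T ∈ M, ∀ x, mat T *ᵥ x = x + ((t - 1) * h x y) • e + ((t⁻¹ - 1) * h x e) • y

theorem hasSc_of_top (P : Pair hF e y d) (hP : M.comap (pl hF P) = ⊤) {t : F} (ht : t ≠ 0) (hts : σ t = t) :
    HasSc M e y t := by
  set t' : fixK hF := ⟨t, hts⟩
  have ht' : t' ≠ 0 := fun e0 => ht (congrArg Subtype.val e0)
  let A : Matrix.SpecialLinearGroup (Fin 2) (fixK hF) := ⟨!![t', 0; 0, t'⁻¹], by simp [Matrix.det_fin_two, ht']⟩
  exact ⟨pl hF P A, (hP ▸ Subgroup.mem_top A : A ∈ M.comap (pl hF P)),
    pl_sc hF P (t := t') ⟨by simp [A], by simp [A], by simp [A], by simp [A]⟩⟩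

theorem hasSc_neg (P : Pair hF e y d) (h2 : (2 : F) ≠ 0) (hlo : Um M y 0 d) {c : F} (hc0 : c ≠ 0) (hc : c + σ c = 0)
    (hU : Um M e 0 c) : HasSc M e y (-1) := by
  refine ⟨_, plane_neg hF P h2 hlo hc0 hc hU, fun x => ?_⟩
  have := pl_sc hF P (t := -1) (A := -1) ⟨by simp, by simp, by simp, by simp [inv_neg, inv_one]⟩ x
  simpa using this

include hF in
/-- Two planes through `e` give a component. -/
theorem adm_diff (P : Pair hF e y d) (Q : Pair hF e z d') {t : F} (ht : t ≠ 0) (hy : HasSc M e y t)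
    (hz : HasSc M e z t) : ∃ x : F, Adm hF M e ((1 - t) • (z - y) + x • e) := by
  obtain ⟨S, hS, hS'⟩ := hy
  obtain ⟨T, hT, hT'⟩ := hz
  have hSy : mat S *ᵥ y = t⁻¹ • y := by rw [hS', P.yy, P.ye]; module
  have hSe : mat S *ᵥ e = t • e := by rw [hS', P.ee, P.ey hF]; module
  have hTe : mat T *ᵥ e = t • e := by rw [hT', Q.ee, Q.ey hF]; module
  have hSiy : mat S⁻¹ *ᵥ y = t • y := by
    conv_lhs => rw [show y = t • (mat S *ᵥ y) by rw [hSy, smul_smul, mul_inv_cancel₀ ht, one_smul]]
    rw [mulVec_smul, mat_inv_mulVec']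
  have hSie : mat S⁻¹ *ᵥ e = t⁻¹ • e := by
    conv_lhs => rw [show e = t⁻¹ • (mat S *ᵥ e) by rw [hSe, smul_smul, inv_mul_cancel₀ ht, one_smul]]
    rw [mulVec_smul, mat_inv_mulVec']
  have := adm_of_fix hF P (g := T * S⁻¹) (mul_mem hT (inv_mem hS)) (by
    rw [mat_mul, ← mulVec_mulVec, hSie, mulVec_smul, hTe, smul_smul, inv_mul_cancel₀ ht, one_smul]) (fun x hx => by
      set x0 := mat S⁻¹ *ᵥ x with hx0
      have hx0e : h x0 e = 0 := by
        have e1 := su_h S x0 e
        rw [hx0, mat_inv_mulVec, hSe, h_smul_right hF, hx, mul_zero] at e1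
        exact e1.symm
      have e2 : x = x0 + ((t - 1) * h x0 y) • e := by
        have e3 := hS' x0
        rw [hx0e, mul_zero, zero_smul, add_zero, hx0, mat_inv_mulVec] at e3
        exact e3
      refine ⟨(t - 1) * h x0 z - (t - 1) * h x0 y, ?_⟩
      rw [mat_mul, ← mulVec_mulVec, hT', hx0e, mul_zero, zero_smul, add_zero]
      conv_rhs => rw [e2]
      module)
  refine ⟨t * ((t - 1) * h y z), ?_⟩
  convert this using 1
  rw [mat_mul, ← mulVec_mulVec, hSiy, mulVec_smul, hT', P.ye, mul_one]
  rw [smul_add, smul_add, smul_smul, smul_smul, mul_sub, mul_inv_cancel₀ ht, mul_one]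
  module

include hF in
/-- A scaling element makes the components a module over the fixed field. -/
theorem adm_smul_fixed (P : Pair hF e y d) (hL : Lg hF M e) {t : F} (ht : t ≠ 0) (hts : σ t = t)
    (hy : HasSc M e y t) {a : Fin n → F} (ha : Adm hF M e a) : Adm hF M e (t • a) := by
  obtain ⟨S, hS, hS'⟩ := hy
  have h1 := Adm.move hF ha hS
  rw [show mat S *ᵥ e = t • e by rw [hS', P.ee, P.ey hF]; module, hS', ha.1, mul_zero, zero_smul, add_zero] at h1
  have h2 := Adm.of_smul hF ht h1
  rw [hts, smul_add, smul_smul] at h2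
  have h3 := (admGroup hF (M := M) P.ee).sub_mem h2 (Adm.self hF P.ee hL (t * ((t - 1) * h a y)))
  rwa [add_sub_cancel_right] at h3

/-- The element scaling a plane with an anisotropic vector. -/
def HasZ (M : Subgroup (Cfsg.SU n F q)) (e y b : Fin n → F) (ν : F) : Prop :=
  ∃ Z ∈ M, ∀ x, mat Z *ᵥ x = x + ((ν - 1) * h x y) • e + ((ν - 1) * h x b) • b + ((ν - 1) * h x e) • y

include hF in
theorem two_zero_of_q (hq : q = 2) : (2 : F) = 0 := by
  obtain ⟨p, f, hp, hf, hc, hqp⟩ := exists_char_pow hF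
  have : p = 2 := (Nat.prime_dvd_prime_iff_eq hp Nat.prime_two).1 (by rw [← hq, hqp]; exact dvd_pow_self p (by omega))
  subst this
  exact_mod_cast CharP.cast_eq_zero F 2

include hF in
theorem exists_omega_two (hq : q = 2) : ∃ w : F, σ w ≠ w ∧ w + σ w = 1 ∧ w * w = w + 1 ∧ σ w = w + 1 := by
  obtain ⟨w, hw⟩ := exists_trace_one hF
  have h2 := two_zero_of_q hF hq
  have hs : σ w = w + 1 := by linear_combination hw - w * h2
  refine ⟨w, fun e0 => ?_, by linear_combination hw, ?_, hs⟩
  · rw [e0] at hw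
    exact zero_ne_one (α := F) (by linear_combination hw - w * h2)
  · rw [frob_apply, hq, pow_two] at hs
    exact hs

include hF in
/-- For two-element fixed fields a plane with an anisotropic vector gives a scalar. -/
theorem hasZ_of (hq : q = 2) (P : Pair hF e y d) (hbe : h b e = 0) (hby : h b y = 0) (hbb : h b b = 1)
    (hy : Lg hF M y) (hL : Lg hF M e) (hA : Adm hF M e b) {w : F} (hw : w + σ w = 1) (hww : w * w = w + 1) :
    HasZ M e y b (w * w) := by
  have h2 := two_zero_of_q hF hq
  have hone : (1 : F) + σ 1 = 0 := by rw [map_one]; linear_combination h2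
  have hR := Adm.um hF P.ee hL hA (s := w) (by rw [hbb]; linear_combination hw + h2)
  obtain ⟨R, hRv⟩ := exists_um hF P.ee hbe (s := w) (by rw [hbb]; linear_combination hw + h2)
  obtain ⟨S, hSv⟩ := exists_um hF P.yy (h_zero_left y) (s := 1) (by rw [h_zero_left]; linear_combination hone)
  have heb := h_symm_zero hF hbe
  have hyb := h_symm_zero hF hby
  have hneg : ∀ v : Fin n → F, -v = v := fun v => by
    funext i
    show -(v i) = v i
    linear_combination -(v i) * h2
  have step : ∀ (A B C : F) (x : Fin n → F), h x e = 0 → h x y = 0 → h x b = 0 →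
      mat (S * R) *ᵥ (A • e + B • b + C • y + x) =
        (A + B + w * C) • e + (B + C) • b + (A + B + (1 + w) * C) • y + x := by
    intro A B C x he' hy' hb'
    rw [mat_mul, ← mulVec_mulVec, hRv, hSv, umat_mulVec, umat_mulVec]
    simp only [h_add_left, h_sub_left, h_smul_left, h_zero_right hF, P.ee, P.yy, P.ye, P.ey hF, hbe, hby, hbb, heb,
      hyb, he', hy', hb', sub_eq_add_neg, hneg, mul_zero, mul_one, add_zero, zero_add, smul_zero, zero_smul]
    module
  refine ⟨(S * R) * (S * R) * ((S * R) * (S * R)), ?_, fun x => ?_⟩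
  · have : S * R ∈ M := mul_mem (hy 1 hone S hSv) (hR R hRv)
    exact mul_mem (mul_mem this this) (mul_mem this this)
  · set x' := x - h x y • e - h x b • b - h x e • y with hx'
    have e0 : h x' e = 0 := by
      simp only [hx', h_sub_left, h_smul_left, P.ee, P.ye, hbe]; ring
    have e1 : h x' y = 0 := by
      simp only [hx', h_sub_left, h_smul_left, P.yy, P.ey hF, hby]; ring
    have e2 : h x' b = 0 := by
      simp only [hx', h_sub_left, h_smul_left, hbb, heb, hyb]; ring
    have ex : x = h x y • e + h x b • b + h x e • y + x' := by rw [hx']; abel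
    have e3 : mat ((S * R) * (S * R) * ((S * R) * (S * R))) *ᵥ x =
        (w * w * h x y) • e + (w * w * h x b) • b + (w * w * h x e) • y + x' := by
      conv_lhs => rw [ex, mat_mul, mat_mul, ← mulVec_mulVec, ← mulVec_mulVec, ← mulVec_mulVec,
        step _ _ _ _ e0 e1 e2, step _ _ _ _ e0 e1 e2, step _ _ _ _ e0 e1 e2, step _ _ _ _ e0 e1 e2]
      congr 1
      congr 1
      · congr 1
        · congr 1; grind
        · congr 1; grind
      · congr 1; grind
    rw [e3, hx']
    module

include hF in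
/-- Two planes with anisotropic vectors give a component. -/
theorem adm_diff_z (P : Pair hF e y d) (Q : Pair hF e z d') (hbe : h b e = 0) (hby : h b y = 0) {ν : F} (hν : ν ≠ 0)
    (hy : HasZ M e y b ν) (hz : HasZ M e z (b - h b z • e) ν) :
    ∃ x : F, Adm hF M e ((1 - ν⁻¹) • (z - y - h z b • b) + x • e) := by
  obtain ⟨S, hS, hS'⟩ := hy
  obtain ⟨T, hT, hT'⟩ := hz
  have heb := h_symm_zero hF hbe
  have hyb := h_symm_zero hF hby
  set b' := b - h b z • e with hb'
  have hb'e : h b' e = 0 := by simp only [hb', h_sub_left, h_smul_left, hbe, P.ee]; ring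
  have heb' : h e b' = 0 := h_symm_zero hF hb'e
  have hyb' : h y b' = -h z b := by
    simp only [hb', h_sub_right hF, h_smul_right hF, hyb, P.ye, h_swap hF]; ring
  have hSy : mat S *ᵥ y = ν • y := by rw [hS', P.yy, P.ye, hyb]; module
  have hSe : mat S *ᵥ e = ν • e := by rw [hS', P.ee, P.ey hF, heb]; module
  have hTe : mat T *ᵥ e = ν • e := by rw [hT', Q.ee, Q.ey hF, heb']; module
  have inv_vec : ∀ v : Fin n → F, mat S *ᵥ v = ν • v → mat S⁻¹ *ᵥ v = ν⁻¹ • v := fun v hv => by
    conv_lhs => rw [show v = ν⁻¹ • (mat S *ᵥ v) by rw [hv, smul_smul, inv_mul_cancel₀ hν, one_smul]]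
    rw [mulVec_smul, mat_inv_mulVec']
  have := adm_of_fix hF P (g := T * S⁻¹) (mul_mem hT (inv_mem hS)) (by
    rw [mat_mul, ← mulVec_mulVec, inv_vec e hSe, mulVec_smul, hTe, smul_smul, inv_mul_cancel₀ hν, one_smul])
    (fun x hx => by
      set x0 := mat S⁻¹ *ᵥ x with hx0
      have hx0e : h x0 e = 0 := by
        have e1 := su_h S x0 e
        rw [hx0, mat_inv_mulVec, hSe, h_smul_right hF, hx, mul_zero] at e1
        exact e1.symm
      have e2 : x = x0 + ((ν - 1) * h x0 y) • e + ((ν - 1) * h x0 b) • b := by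
        have e3 := hS' x0
        rw [hx0e, mul_zero, zero_smul, add_zero, hx0, mat_inv_mulVec] at e3
        exact e3
      have hb0 : h x0 b' = h x0 b := by
        simp only [hb', h_sub_right hF, h_smul_right hF, hx0e]; ring
      refine ⟨(ν - 1) * h x0 z - (ν - 1) * h x0 y - (ν - 1) * h x0 b * h b z, ?_⟩
      rw [mat_mul, ← mulVec_mulVec, hT', hx0e, hb0, mul_zero, zero_smul, add_zero]
      conv_rhs => rw [e2]
      simp only [hb']
      module)
  refine ⟨ν⁻¹ * ((ν - 1) * h y z + (ν - 1) * h z b * h b z), ?_⟩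
  convert this using 1
  rw [mat_mul, ← mulVec_mulVec, inv_vec y hSy, mulVec_smul, hT', P.ye, hyb', hb']
  rw [show (1 : F) - ν⁻¹ = ν⁻¹ * (ν - 1) by rw [mul_sub, inv_mul_cancel₀ hν, mul_one]]
  have : y = (ν⁻¹ * ν) • y := by rw [inv_mul_cancel₀ hν, one_smul]
  conv_rhs => arg 2; rw [this]
  module

include hF in
/-- Conjugating by an element fixing `e` moves a component along the displacement. -/
theorem um_step {u : Cfsg.SU n F q} (hu : u ∈ M) (he : h e e = 0) (hue : mat u *ᵥ e = e) {a : Fin n → F} {s : F}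
    (hav : h a e = 0) (hs : h a a + s + σ s = 0) (hA : Um M e a s) : Um M e (dk u a) (h a (dk u a)) := by
  have h1 := Um.move hF hA hu
  rw [hue] at h1
  obtain ⟨g, hg⟩ := exists_um hF he hav hs
  have hna : h (-a) e = 0 := by rw [← neg_one_smul F a, h_smul_left, hav, mul_zero]
  have h2 : Um M e (-a) (σ s) := um_of_mem (um_inv hF he hav hs hg) (inv_mem (hA g hg))
  have h3 := Um.mul hF he (by rw [← hue, su_h, hav] : h (mat u *ᵥ a) e = 0) hna
    (by rw [su_h]; exact hs) (by rw [h_neg_right' hF, ← neg_one_smul F a, h_smul_left, frob_frob hF]; linear_combination hs)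
    h1 h2
  rw [dk_apply, sub_eq_add_neg (mat u *ᵥ a)]
  convert h3 using 1
  rw [← neg_one_smul F a, h_smul_left, h_add_right hF, h_smul_right hF, map_neg, map_one]
  linear_combination -hs

include hF in
theorem adm_dk {u : Cfsg.SU n F q} (hu : u ∈ M) (he : h e e = 0) (hue : mat u *ᵥ e = e) {a : Fin n → F}
    (hA : Adm hF M e a) : Adm hF M e (dk u a) := by
  have h1 := Adm.move hF hA hu
  rw [hue] at h1
  rw [dk_apply]
  exact (admGroup hF (M := M) he).sub_mem h1 hA

include hF in
theorem adm_dk_iter {u : Cfsg.SU n F q} (hu : u ∈ M) (he : h e e = 0) (hue : mat u *ᵥ e = e) {a : Fin n → F}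
    (hA : Adm hF M e a) (j : ℕ) : Adm hF M e ((dk u ^ j) a) := by
  induction j with
  | zero => simpa using hA
  | succ j ih => rw [pow_succ', Module.End.mul_apply]; exact adm_dk hF hu he hue ih

include hF in
/-- A component displaced into the centre gives a long root element. -/
theorem lg_seed {u : Cfsg.SU n F q} (hu : u ∈ M) (he : h e e = 0) (hue : mat u *ᵥ e = e) {a : Fin n → F}
    (hA : Adm hF M e a) {r : F} (hr : dk u a = r • e) : Um M e 0 (r - σ r) := by
  obtain ⟨hav, s, hs, hU⟩ := hA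
  have := um_step hF hu he hue hav hs hU
  rw [hr, h_smul_right hF, hav, mul_zero] at this
  intro g hg
  refine this g ?_
  rw [hg, umat_self hF, zero_add]

include hF in
/-- The quotient of two conjugates of `u` by a root element. -/
theorem um_comm {u g : Cfsg.SU n F q} (hu : u ∈ M) (hgu : g * u * g⁻¹ ∈ M) (he : h e e = 0)
    (hue : mat u *ᵥ e = e) {a : Fin n → F} {s : F} (hav : h a e = 0) (hs : h a a + s + σ s = 0)
    (hg : mat g = umat (q := q) e a s) : Um M e (-dk u a) (h (dk u a) a) := by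
  refine um_of_mem (g := g * (u * g⁻¹ * u⁻¹)) ?_ (by simpa [mul_assoc] using mul_mem hgu (inv_mem hu))
  have hna : h (-a) e = 0 := by rw [← neg_one_smul F a, h_smul_left, hav, mul_zero]
  rw [mat_mul, hg, conj_um hF u g⁻¹ (um_inv hF he hav hs hg), hue,
    umat_mul hF he hav (by rw [← hue, su_h, hna])]
  congr 1
  · rw [dk_apply, mulVec_neg, neg_sub, sub_eq_add_neg]
  · rw [dk_apply, mulVec_neg, h_sub_left, ← neg_one_smul F (mat u *ᵥ a), h_smul_left]
    linear_combination hs

end CfsgLib.UnitReg
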