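import Cfsg.Agent.Lib.UnitReg.Chain
import Cfsg.Agent.Lib.TwoGenClassical.UnitDiag

/-!
# Three conjugates of a regular element generate
-/

set_option autoImplicit false
set_option linter.unusedSectionVars false
set_option maxHeartbeats 1600000

namespace CfsgLib.UnitReg

open Matrix CfsgLib.UnitaryTransvection CfsgLib.UnitarySimple CfsgLib.TwoGenCl.Unit
open CfsgLib.Dickson (up lo)

variable {F : Type*} [Field F] [Fintype F] {q n : ℕ} (hF : Fintype.card F = q ^ 2)

local notation "h" => Cfsg.hermForm n F q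
local notation "σ" => frob hF

variable {M : Subgroup (Cfsg.SU n F q)} {u : Cfsg.SU n F q} {e φ P : Fin n → F}

include hF in
theorem um_move_smul {e : Fin n → F} {c : F} (hU : Um M e 0 c) {v : Cfsg.SU n F q} (hv : v ∈ M) {ζ : F} (hζ : ζ ≠ 0) :
    Um M (ζ⁻¹ • mat v *ᵥ e) 0 (ζ * σ ζ * c) := fun g hg => by
  have h1 := Um.move hF hU hv
  rw [mulVec_zero] at h1
  refine h1 g ?_
  rw [hg, umat_smul hF, smul_zero, map_inv₀]
  congr 1
  have : σ ζ ≠ 0 := by simpa using hζ
  field_simp

theorem pair_of (he : h e e = 0) {v : Cfsg.SU n F q} (hζ : h (mat v *ᵥ e) e ≠ 0) {c : F} (hc0 : c ≠ 0)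
    (hc : c + σ c = 0) : Pair hF e ((h (mat v *ᵥ e) e)⁻¹ • mat v *ᵥ e)
      (h (mat v *ᵥ e) e * σ (h (mat v *ᵥ e) e) * c) where
  ee := he
  yy := by rw [h_smul_left, h_smul_right hF, su_h, he]; ring
  ye := by rw [h_smul_left, inv_mul_cancel₀ hζ]
  d0 := mul_ne_zero (mul_ne_zero hζ (by simpa using hζ)) hc0
  skew := by
    rw [map_mul, map_mul, frob_frob hF]
    linear_combination (h (mat v *ᵥ e) e * σ (h (mat v *ᵥ e) e)) * hc

include hF in
/-- The square of a root element in characteristic two. -/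
theorem sq_seed (h2 : (2 : F) = 0) {a : Fin n → F} {s : F} (he : h e e = 0) (hav : h a e = 0)
    (hs : h a a + s + σ s = 0) (hA : Um M e a s) : Um M e 0 (h a a) := by
  have := Um.mul hF he hav hav hs hs hA hA
  rw [← two_smul F a, h2, zero_smul] at this
  intro g hg
  refine this g ?_
  rw [hg]
  congr 1
  linear_combination (h a a - s) * h2

theorem exists_real_ne_one (hq : 3 ≤ q) : ∃ t : F, σ t = t ∧ t ≠ 0 ∧ t ≠ 1 := by
  obtain ⟨ω, hω, -⟩ := exists_gen hF
  refine ⟨(ω : F) * σ (ω : F), by rw [map_mul, frob_frob hF, mul_comm], mul_ne_zero ω.ne_zero (by simp), fun e1 => ?_⟩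
  rw [frob_apply, ← pow_succ'] at e1
  have : ω ^ (q + 1) = 1 := Units.ext (by rw [Units.val_pow_eq_pow_val, e1, Units.val_one])
  have h1 := orderOf_dvd_of_pow_eq_one this
  rw [hω] at h1
  have h2 := Nat.le_of_dvd (by omega) h1
  have h3 : 3 * q ≤ q ^ 2 := by rw [pow_two]; exact Nat.mul_le_mul_right q hq
  omega

variable (D : Data hF u e φ P)
include D

theorem he_of : h e e = 0 := by
  have := D.orth (n - 1) (by have := D.hn; omega)
  rwa [D.last] at this

theorem hPe_of : h P e = 0 := by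
  have := D.orth (n - 2) (by have := D.hn; omega)
  rwa [D.pen] at this

theorem h_dk_e (x : Fin n → F) : h (dk u x) e = 0 := by
  rw [dk_apply, h_sub_left]
  nth_rw 1 [← D.fix hF]
  rw [su_h, sub_self]

theorem admissible_all (hu : u ∈ M) (hL : Lg hF M e)
    (hreal : ∀ t a, σ t = t → Adm hF M e a → Adm hF M e (t • a))
    {a a' : Fin n → F} (hA : Adm hF M e a) (hA' : Adm hF M e a') (ha : h a P ≠ 0)
    (hρ : σ (h a' P / h a P) ≠ h a' P / h a P) : Rad hF M e := by
  have he := he_of hF D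
  obtain ⟨τ, hτ0, hτs, hτ⟩ := D.pen_step hF
  set ρ := h a' P / h a P with hρd
  have hsplit : ∀ y, h y e = 0 → ∃ (b : Fin n → F) (z : Fin n → F), Adm hF M e b ∧ y = b + dk u (dk u z) := by
    intro y hy
    obtain ⟨r0, r1, hr0, hr1, hr⟩ := span_fixed hF hρ (h y P / h a P)
    have hb : Adm hF M e (r0 • a + r1 • a') :=
      (admGroup hF (M := M) he).add_mem (hreal _ _ hr0 hA) (hreal _ _ hr1 hA')
    obtain ⟨z, hz⟩ := D.range_two hF (x := y - (r0 • a + r1 • a'))
      (by rw [h_sub_left, hy, h_add_left, h_smul_left, h_smul_left, hA.1, hA'.1]; ring) (by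
        rw [h_sub_left, h_add_left, h_smul_left, h_smul_left, sub_eq_zero]
        rw [div_eq_iff ha] at hr
        rw [hr, hρd, add_mul, mul_assoc, div_mul_cancel₀ _ ha])
    exact ⟨_, z, hb, by rw [← hz]; abel⟩
  have key : ∀ j k, n ≤ (k + 1) + j → ∀ z, Adm hF M e ((dk u ^ (k + 1)) z) := by
    intro j
    induction j with
    | zero =>
      intro k hk z
      obtain ⟨i, hi⟩ := Nat.exists_eq_add_of_le (show n ≤ k + 1 by omega)
      rw [hi, add_comm, pow_add, Module.End.mul_apply, D.nil hF, map_zero]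
      exact Adm.zero hF
    | succ j ih =>
      intro k hk z
      obtain ⟨b, z', hb, hy⟩ := hsplit (dk u z) (h_dk_e hF D z)
      rw [pow_succ, Module.End.mul_apply, hy, map_add]
      refine (admGroup hF (M := M) he).add_mem (adm_dk_iter hF hu he (D.fix hF) hb k) ?_
      show Adm hF M e _
      rw [← Module.End.mul_apply, ← Module.End.mul_apply, ← pow_succ, ← pow_succ]
      exact ih (k + 1) (by omega) z'
  refine rad_of_adm hF he hL fun y hy => ?_
  obtain ⟨b, z', hb, rfl⟩ := hsplit y hy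
  refine (admGroup hF (M := M) he).add_mem hb ?_
  have := key n 1 (by omega) z'
  rwa [pow_two, Module.End.mul_apply] at this

/-- A regular element with two suitable conjugates generates. -/
theorem generate (h32 : ¬ (n = 3 ∧ q = 2)) {θ : Cfsg.SU n F q} {α μ : F} (hθφ : mat θ *ᵥ φ = α • e)
    (hθP : mat θ⁻¹ *ᵥ P = μ • P) (hαμ : σ (α * μ) ≠ α * μ) :
    ∃ g : Cfsg.SU n F q, Subgroup.closure ({u, g * u * g⁻¹, θ * u * θ⁻¹} : Set (Cfsg.SU n F q)) = ⊤ := by
  classical
  have hn := D.hn
  have he := he_of hF D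
  have hPe := hPe_of hF D
  have hue := D.fix hF
  obtain ⟨τ, hτ0, hτs, hτ⟩ := D.pen_step hF
  have huP : mat u *ᵥ P = P + τ • e := by rw [dk_apply, sub_eq_iff_eq_add'] at hτ; exact hτ
  have hα : α ≠ 0 := fun e0 => hαμ (by rw [e0, zero_mul, map_zero])
  have hσα : σ α ≠ 0 := by simpa using hα
  set b0 := h (mat u *ᵥ φ) φ with hb0d
  have htr : b0 + σ b0 ≠ 0 := D.trne
  have hb0 : b0 ≠ 0 := fun e0 => htr (by rw [e0, map_zero, add_zero])
  have hσb0 : σ b0 ≠ 0 := by simpa using hb0
  have hbi : h (mat u⁻¹ *ᵥ φ) φ = σ b0 := by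
    rw [← su_h u, mat_inv_mulVec, hb0d, h_swap hF]
  have hbP : h (mat u *ᵥ φ) P = -τ := by
    have h1 := su_h u φ P
    rw [huP, h_add_right hF, h_smul_right hF, D.phiP] at h1
    have h2 := su_h u φ e
    rw [hue, D.phie] at h2
    rw [h2, hτs] at h1
    linear_combination h1
  have hbiP : h (mat u⁻¹ *ᵥ φ) P = τ := by
    rw [← su_h u, mat_inv_mulVec, huP, h_add_right hF, h_smul_right hF, D.phiP, D.phie, hτs]
    ring
  have hθi : mat θ⁻¹ *ᵥ e = α⁻¹ • φ := by
    rw [show e = α⁻¹ • (mat θ *ᵥ φ) by rw [hθφ, smul_smul, inv_mul_cancel₀ hα, one_smul], mulVec_smul,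
      mat_inv_mulVec']
  have hθh : ∀ x, h (mat θ *ᵥ x) e = σ α⁻¹ * h x φ ∧ h (mat θ *ᵥ x) P = σ μ * h x P := fun x => by
    constructor
    · conv_lhs => rw [← mat_inv_mulVec θ e, su_h, hθi, h_smul_right hF]
    · conv_lhs => rw [← mat_inv_mulVec θ P, su_h, hθP, h_smul_right hF]
  set v := θ * u * θ⁻¹ with hv
  have hve : mat v *ᵥ e = α⁻¹ • (mat θ *ᵥ (mat u *ᵥ φ)) := by
    rw [hv, mat_mul, mat_mul, ← mulVec_mulVec, ← mulVec_mulVec, hθi, mulVec_smul, mulVec_smul]
  have hvie : mat v⁻¹ *ᵥ e = α⁻¹ • (mat θ *ᵥ (mat u⁻¹ *ᵥ φ)) := by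
    rw [hv, show (θ * u * θ⁻¹)⁻¹ = θ * u⁻¹ * θ⁻¹ by group, mat_mul, mat_mul, ← mulVec_mulVec, ← mulVec_mulVec, hθi,
      mulVec_smul, mulVec_smul]
  set ζ := h (mat v *ᵥ e) e with hζd
  set ζ' := h (mat v⁻¹ *ᵥ e) e with hζ'd
  have eζ : ζ = α⁻¹ * (σ α⁻¹ * b0) := by rw [hζd, hve, h_smul_left, (hθh _).1]
  have eζ' : ζ' = α⁻¹ * (σ α⁻¹ * σ b0) := by rw [hζ'd, hvie, h_smul_left, (hθh _).1, hbi]
  have hζ : ζ ≠ 0 := by rw [eζ]; simp [hα, hb0]
  have hζ' : ζ' ≠ 0 := by rw [eζ']; simp [hα, hb0]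
  have huv : h (mat (u * v) *ᵥ e) e = ζ := by
    rw [hζd, mat_mul, ← mulVec_mulVec]
    nth_rw 2 [← hue]
    rw [su_h]
  set y := ζ⁻¹ • mat v *ᵥ e with hyd
  set y' := ζ'⁻¹ • mat v⁻¹ *ᵥ e with hy'd
  set z := ζ⁻¹ • mat (u * v) *ᵥ e with hzd
  have hzy : z = mat u *ᵥ y := by rw [hzd, hyd, mulVec_smul, mat_mul, mulVec_mulVec]
  have hye : h y e = 1 := by rw [hyd, h_smul_left, ← hζd, inv_mul_cancel₀ hζ]
  have hy'e : h y' e = 1 := by rw [hy'd, h_smul_left, ← hζ'd, inv_mul_cancel₀ hζ']
  set T1 := h (z - y) P with hT1d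
  set T2 := h (y' - y) P with hT2d
  have eT1 : T1 = -τ := by
    rw [hT1d, hzy, h_sub_left]
    have h1 := su_h u y P
    rw [huP, h_add_right hF, h_smul_right hF, hτs] at h1
    have h2 : h (mat u *ᵥ y) e = 1 := by
      nth_rw 1 [← hue]
      rw [su_h, hye]
    rw [h2] at h1
    linear_combination h1
  have eT2 : T2 = τ * σ (α * μ) * ((b0 + σ b0) / (b0 * σ b0)) := by
    rw [hT2d, h_sub_left, hy'd, hyd, h_smul_left, h_smul_left, hve, hvie, h_smul_left, h_smul_left, (hθh _).2,
      (hθh _).2, hbP, hbiP, eζ, eζ', map_inv₀, map_mul]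
    field_simp
    ring
  have hT1 : T1 ≠ 0 := by rw [eT1]; exact neg_ne_zero.2 hτ0
  have hratio : σ (T2 / T1) ≠ T2 / T1 := by
    intro e0
    apply hαμ
    have hs : σ ((b0 + σ b0) / (b0 * σ b0)) = (b0 + σ b0) / (b0 * σ b0) := by
      rw [map_div₀, map_add, map_mul, frob_frob hF, add_comm, mul_comm]
    have hs0 : (b0 + σ b0) / (b0 * σ b0) ≠ 0 := div_ne_zero htr (mul_ne_zero hb0 hσb0)
    rw [eT1, eT2, map_div₀, map_neg, map_mul, map_mul, hτs, hs, frob_frob hF, div_eq_div_iff
      (neg_ne_zero.2 hτ0) (neg_ne_zero.2 hτ0)] at e0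
    exact (mul_left_cancel₀ (mul_ne_zero (neg_ne_zero.2 hτ0) hτ0)
      (mul_right_cancel₀ hs0 (by linear_combination e0))).symm
  obtain ⟨m, r, hr0, hrs, hmid⟩ := D.mid hF
  set K := fixK hF
  obtain ⟨ρ, hρgen⟩ : ∃ ρ : K, ρ ≠ 0 ∧ ∀ S : Subfield K, ρ ∈ S → S = ⊤ := by
    haveI : Finite K := inferInstance
    obtain ⟨g, hg⟩ := IsCyclic.exists_generator (α := Kˣ)
    refine ⟨g, g.ne_zero, fun S hS => eq_top_iff.2 fun x _ => ?_⟩
    rcases eq_or_ne x 0 with rfl | hx
    · exact S.zero_mem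
    · obtain ⟨k, hk⟩ := mem_powers_iff_mem_zpowers.mpr (hg (Units.mk0 x hx))
      have := congrArg Units.val hk
      simp only [Units.val_pow_eq_pow_val, Units.val_mk0] at this
      exact this ▸ pow_mem hS k
  obtain ⟨hρ0, hρS⟩ := hρgen
  have hρF : (ρ : F) ≠ 0 := fun e0 => hρ0 (Subtype.ext e0)
  have hρs : σ (ρ : F) = ρ := fixK_eq hF ρ
  obtain ⟨t, ht⟩ := exists_trace_one hF
  have ht0 : t ≠ 0 := fun e0 => by rw [e0, map_zero, add_zero] at ht; exact zero_ne_one ht
  obtain ⟨a0, j, R, ha0e, hR0, hRs, hbig, hjR⟩ : ∃ (a0 : Fin n → F) (j : ℕ) (R : F), h a0 e = 0 ∧ R ≠ 0 ∧ σ R = R ∧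
      ((D.i0 = 1 ∧ a0 = P ∧ R = τ) ∨ (2 ≤ D.i0 ∧ dk u a0 = D.w D.i0)) ∧
      (2 ≤ D.i0 → dk u ((dk u ^ j) (dk u a0)) = R • e) := by
    rcases Nat.eq_or_lt_of_le D.i0_pos with h1 | h1
    · exact ⟨P, 0, τ, hPe, hτ0, hτs, Or.inl ⟨h1.symm, rfl, rfl⟩, fun hh => absurd hh (by omega)⟩
    · obtain ⟨a0, j, R, a, b, c, d1, d2⟩ := D.seed_data hF h1
      exact ⟨a0, j, R, a, b, c, Or.inr ⟨h1, d1⟩, fun _ => d2⟩
  -- the choice of the second conjugate
  set C : F := 4 * r * (σ T1 * T2 - T1 * σ T2) with hCd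
  obtain ⟨γ, hγ⟩ : ∃ γ : F, R * (σ γ - γ) = (ρ : F) *
      (if (2 : F) = 0 then (if D.i0 = 1 then 1 else γ * σ γ) else C) ∧ γ ≠ 0 := by
    have hlin : ∀ c : F, c ≠ 0 → σ c = -c → ∃ γ : F, R * (σ γ - γ) = (ρ : F) * c ∧ γ ≠ 0 := by
      intro c hc hcs
      refine ⟨-((ρ : F) * c / R * t), ?_, by simp [hρF, hc, hR0, ht0]⟩
      rw [map_neg, map_mul, map_div₀, map_mul, hρs, hcs, hRs]
      field_simp
      linear_combination ht
    by_cases h2 : (2 : F) = 0
    · simp only [if_pos h2]
      by_cases hi : D.i0 = 1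
      · simp only [if_pos hi]
        exact hlin 1 one_ne_zero (by rw [map_one]; linear_combination h2)
      · simp only [if_neg hi]
        set δ := (ρ : F) / R * t with hδ
        have hδ0 : δ ≠ 0 := mul_ne_zero (div_ne_zero hρF hR0) ht0
        refine ⟨δ⁻¹, ?_, inv_ne_zero hδ0⟩
        have hσδ : σ δ ≠ 0 := by simpa using hδ0
        have e1 : δ + σ δ = (ρ : F) / R := by
          rw [hδ, map_mul, map_div₀, hρs, hRs, ← mul_add, add_comm, ht, mul_one]
        rw [map_inv₀]
        field_simp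
        rw [eq_div_iff hR0] at e1
        linear_combination e1 - (R * σ δ) * h2
    · simp only [if_neg h2]
      have h4 : (4 : F) ≠ 0 := by rw [show (4 : F) = 2 * 2 by norm_num]; exact mul_ne_zero h2 h2
      refine hlin C (mul_ne_zero (mul_ne_zero h4 hr0) fun e0 => hratio ?_) ?_
      · have hT1' : σ T1 ≠ 0 := by simpa using hT1
        rw [map_div₀, div_eq_div_iff hT1' hT1]
        linear_combination -e0
      · rw [hCd, map_mul, map_mul, map_sub, map_mul, map_mul, hrs, frob_frob hF, frob_frob hF, map_ofNat]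
        ring
  obtain ⟨hγ, hγ0⟩ := hγ
  have haa : h (γ • a0) e = 0 := by rw [h_smul_left, ha0e, mul_zero]
  have hreal : σ (h (γ • a0) (γ • a0)) = h (γ • a0) (γ • a0) := h_swap hF _ _
  obtain ⟨g, hg⟩ := exists_um hF he haa (s := -(h (γ • a0) (γ • a0)) * t) (by
    rw [map_mul, map_neg, hreal]; linear_combination -(h (γ • a0) (γ • a0)) * ht)
  refine ⟨g, ?_⟩
  set M := Subgroup.closure ({u, g * u * g⁻¹, v} : Set (Cfsg.SU n F q))
  have hu : u ∈ M := Subgroup.subset_closure (by simp)
  have hgu : g * u * g⁻¹ ∈ M := Subgroup.subset_closure (by simp)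
  have hvM : v ∈ M := Subgroup.subset_closure (by simp)
  have hR' := um_comm hF hu hgu he hue haa (by
    rw [map_mul, map_neg, hreal]; linear_combination -(h (γ • a0) (γ • a0)) * ht) hg
  set c0 := R * (σ γ - γ) with hc0d
  have hc0s : c0 + σ c0 = 0 := by rw [hc0d, map_mul, map_sub, frob_frob hF, hRs]; ring
  have hUc0 : Um M e 0 c0 := by
    rcases hbig with ⟨hi, rfl, rfl⟩ | ⟨hi, hw⟩
    · rw [map_smul, hτ, smul_smul, ← neg_smul, h_smul_left, h_smul_right hF, h_symm_zero hF hPe, mul_zero,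
        mul_zero] at hR'
      intro k hk
      refine hR' k ?_
      rw [hk, umat_self hF, map_neg, map_mul, hτs, hc0d]
      congr 1
      ring
    · have hA : Adm hF M e (-dk u (γ • a0)) := by
        refine ⟨by rw [← neg_one_smul F (dk u _), h_smul_left, h_dk_e hF D, mul_zero], _, ?_, hR'⟩
        set a := γ • a0 with had
        rw [← neg_one_smul F (dk u a), h_smul_left, h_smul_right hF, map_neg, map_one, dk_apply, h_sub_left,
          h_sub_left, h_sub_right hF, h_sub_right hF, su_h, map_sub, h_swap hF (mat u *ᵥ a) a, hreal]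
        ring
      have := lg_seed hF hu he hue (adm_dk_iter hF hu he hue hA j) (r := -(γ * R)) (by
        rw [map_neg, map_neg, map_smul, map_smul, map_smul, hjR hi, smul_smul, neg_smul])
      rw [map_neg, map_mul, hRs] at this
      rw [hc0d]
      intro k hk
      refine this k ?_
      rw [hk]
      congr 1
      ring
  have hUc1 : Um M e 0 (if (2 : F) = 0 then (if D.i0 = 1 then 1 else γ * σ γ) else C) ∧
      (if (2 : F) = 0 then (if D.i0 = 1 then 1 else γ * σ γ) else C) ≠ 0 := by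
    refine ⟨?_, fun e0 => ?_⟩
    · by_cases h2 : (2 : F) = 0
      · rw [if_pos h2]
        by_cases hi : D.i0 = 1
        · rw [if_pos hi]
          obtain ⟨hn3, s, hs⟩ := D.small hi
          have hPP : h P P = 1 := by
            have := D.aniso
            rwa [hi, show 1 = n - 2 by omega, D.pen] at this
          obtain ⟨g', hg'⟩ : ∃ g' : Cfsg.SU n F q, mat g' = umat (q := q) e P s := ⟨u, hs⟩
          have hsI : h P P + s + σ s = 0 := by
            have h1 := su_h u φ φ
            rw [hs, umat_mulVec, D.phie, D.phiP] at h1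
            simp only [one_smul, zero_smul, sub_zero, mul_one, h_add_left, h_add_right hF, h_smul_left,
              h_smul_right hF, D.phiphi, D.phiP, D.phie, he, hPe, h_symm_zero hF hPe,
              h_symm_zero hF D.phiP, show h e φ = 1 by rw [← h_swap hF, D.phie, map_one]] at h1
            linear_combination h1
          have := sq_seed hF h2 he hPe hsI (um_of_mem hs hu)
          rwa [hPP] at this
        · rw [if_neg hi]
          have hw : dk u a0 = D.w D.i0 := by
            rcases hbig with ⟨h1, -, -⟩ | ⟨-, hw⟩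
            · exact absurd h1 hi
            · exact hw
          set a := γ • a0 with had
          have hiso : h (-dk u a) (-dk u a) + h (dk u a) a + σ (h (dk u a) a) = 0 := by
            rw [← neg_one_smul F (dk u a), h_smul_left, h_smul_right hF, map_neg, map_one, dk_apply, h_sub_left,
              h_sub_left, h_sub_right hF, h_sub_right hF, su_h, map_sub, h_swap hF (mat u *ᵥ a) a, hreal]
            ring
          have := sq_seed hF h2 he (by rw [← neg_one_smul F (dk u _), h_smul_left, h_dk_e hF D, mul_zero]) hiso hR'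
          rwa [had, map_smul, hw, ← neg_smul, h_smul_left, h_smul_right hF, D.aniso, map_neg, mul_one,
            neg_mul_neg] at this
      · rw [if_neg h2]
        have hc00 : c0 ≠ 0 := by
          rw [hγ, if_neg h2]
          refine mul_ne_zero hρF (mul_ne_zero (mul_ne_zero ?_ hr0) fun e0 => hratio ?_)
          · rw [show (4 : F) = 2 * 2 by norm_num]; exact mul_ne_zero h2 h2
          · have hT1' : σ T1 ≠ 0 := by simpa using hT1
            rw [map_div₀, div_eq_div_iff hT1' hT1]
            linear_combination -e0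
        have hneg : ∀ v' ∈ M, h (mat v' *ᵥ e) e ≠ 0 → HasSc M e ((h (mat v' *ᵥ e) e)⁻¹ • mat v' *ᵥ e) (-1) :=
          fun v' hv' hne => hasSc_neg hF (pair_of hF he hne hc00 hc0s) h2 (um_move_smul hF hUc0 hv' hne) hc00 hc0s hUc0
        have sy := hneg v hvM hζ
        have sz := hneg (u * v) (mul_mem hu hvM) (by rw [huv]; exact hζ)
        have sy' := hneg v⁻¹ (inv_mem hvM) hζ'
        rw [huv, ← hzd] at sz
        obtain ⟨x1, hA1⟩ := adm_diff hF (pair_of hF he hζ hc00 hc0s)
          (show Pair hF e z (ζ * σ ζ * c0) by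
            have := pair_of hF he (v := u * v) (by rw [huv]; exact hζ) hc00 hc0s
            rwa [huv] at this) (neg_ne_zero.2 one_ne_zero) sy sz
        obtain ⟨x2, hA2⟩ := adm_diff hF (pair_of hF he hζ hc00 hc0s) (pair_of hF he hζ' hc00 hc0s)
          (neg_ne_zero.2 one_ne_zero) sy sy'
        rw [← hyd] at hA1 hA2
        rw [← hy'd] at hA2
        obtain ⟨x3, hx3⟩ := hmid _ hA1.1
        have hA1' := adm_dk_iter hF hu he hue hA1 m
        rw [hx3] at hA1'
        obtain ⟨hae, s1, hs1, hU1⟩ := hA2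
        obtain ⟨hbe, s2, hs2, hU2⟩ := hA1'
        have := comm_same hF he hae hbe hs1 hs2 hU1 hU2
        intro k hk
        refine this k ?_
        rw [hk]
        congr 1
        have heP := h_symm_zero hF hPe
        have hey : h (y' - y) e = 0 := by rw [h_sub_left, hy'e, hye, sub_self]
        have hey' := h_symm_zero hF hey
        simp only [h_add_left, h_add_right hF, h_smul_left, h_smul_right hF, he, hPe, heP, hey, hey', map_mul, map_add,
          map_sub, map_one, map_neg, mul_zero, add_zero, ← hT1d, ← hT2d, hrs]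
        rw [← h_swap hF (y' - y) P, ← hT2d, hCd]
        ring
    · by_cases h2 : (2 : F) = 0
      · rw [if_pos h2] at e0
        by_cases hi : D.i0 = 1
        · rw [if_pos hi] at e0; exact one_ne_zero e0
        · rw [if_neg hi] at e0; simp [hγ0] at e0
      · rw [if_neg h2] at e0
        refine (mul_ne_zero (mul_ne_zero ?_ hr0) fun e1 => hratio ?_) e0
        · rw [show (4 : F) = 2 * 2 by norm_num]; exact mul_ne_zero h2 h2
        · have hT1' : σ T1 ≠ 0 := by simpa using hT1
          rw [map_div₀, div_eq_div_iff hT1' hT1]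
          linear_combination -e1
  obtain ⟨hUc1, hc10⟩ := hUc1
  set c1 := if (2 : F) = 0 then (if D.i0 = 1 then 1 else γ * σ γ) else C
  have hc0ρ : c0 = (ρ : F) * c1 := hγ
  have hc00 : c0 ≠ 0 := by rw [hc0ρ]; exact mul_ne_zero hρF hc10
  have hc1s : c1 + σ c1 = 0 := by
    rw [hc0ρ, map_mul, hρs, ← mul_add] at hc0s
    exact (mul_eq_zero.1 hc0s).resolve_left hρF
  have hfull : ∀ v' ∈ M, ∀ hne : h (mat v' *ᵥ e) e ≠ 0,
      M.comap (pl hF (pair_of hF he hne hc00 hc0s)) = ⊤ := fun v' hv' hne =>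
    plane_top hF _ (um_move_smul hF hUc0 hv' hne) hc1s hUc1 hc10 hc0s hUc0 fun S hS =>
      hρS S (hS ρ (by rw [hc0ρ, mul_div_cancel_right₀ _ hc10]))
  have hL : Lg hF M e := fun c hc k hk => by
    have := hfull v hvM hζ
    have hP := pair_of hF he hζ hc00 hc0s
    have hk' : k = pl hF hP (up ⟨c * _, skew_mul_mem hF hP hc⟩) := su_ext fun x => by
      rw [hk, pl_up hF hP]
      congr 2
      exact (mul_inv_cancel_right₀ hP.d0 c).symm
    rw [hk']
    exact (this ▸ Subgroup.mem_top _ : up _ ∈ M.comap (pl hF hP))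
  have hop : h (mat v *ᵥ e) e ≠ 0 := hζ
  have hRad : Rad hF M e := by
    have hPy : Pair hF e y (ζ * σ ζ * c0) := pair_of hF he hζ hc00 hc0s
    have hPz : Pair hF e z (ζ * σ ζ * c0) := by
      have := pair_of hF he (v := u * v) (by rw [huv]; exact hζ) hc00 hc0s
      rwa [huv] at this
    by_cases hq : q = 2
    · have hn5 : 2 ≤ D.i0 := by
        rcases Nat.eq_or_lt_of_le D.i0_pos with h1 | h1
        · exact absurd ⟨(D.small h1.symm).1, hq⟩ h32
        · exact h1
      have hw : dk u a0 = D.w D.i0 := by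
        rcases hbig with ⟨h1, -, -⟩ | ⟨-, hw⟩
        · omega
        · exact hw
      obtain ⟨w, hwne, hw1, hww, hws⟩ := exists_omega_two hF hq
      have hA : Adm hF M e (γ • D.w D.i0) := by
        have h1 : Adm hF M e (-dk u (γ • a0)) := by
          refine ⟨by rw [← neg_one_smul F (dk u _), h_smul_left, h_dk_e hF D, mul_zero], _, ?_, hR'⟩
          set a := γ • a0 with had
          rw [← neg_one_smul F (dk u a), h_smul_left, h_smul_right hF, map_neg, map_one, dk_apply, h_sub_left,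
            h_sub_left, h_sub_right hF, h_sub_right hF, su_h, map_sub, h_swap hF (mat u *ᵥ a) a, hreal]
          ring
        have h3 := (admGroup hF (M := M) he).neg_mem h1
        rwa [neg_neg, map_smul, hw, mem_admGroup] at h3
      obtain ⟨b, hbd⟩ : ∃ b, b = γ • D.w D.i0 := ⟨_, rfl⟩
      rw [← hbd] at hA
      have hbe : h b e = 0 := hA.1
      have hbP : h b P = 0 := by rw [hbd, h_smul_left, D.orthP _ hn5, mul_zero]
      obtain ⟨b1, hb1⟩ : ∃ b1, b1 = b - h b y • e := ⟨_, rfl⟩
      have hA1 : Adm hF M e b1 := hb1 ▸ (admGroup hF (M := M) he).sub_mem hA (Adm.self hF he hL _)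
      have hb1e : h b1 e = 0 := hA1.1
      have hey : h e y = 1 := by rw [← h_swap hF, hye, map_one]
      have hb1y : h b1 y = 0 := by rw [hb1, h_sub_left, h_smul_left, hey, mul_one, sub_self]
      have hb1b1 : h b1 b1 = 1 := by
        have : γ * σ γ = 1 := by
          rw [frob_apply, hq, ← pow_succ']
          have hu1 := CfsgLib.TwoGenCl.Unit.units_pow_eq_one hF (Units.mk0 γ hγ0)
          subst hq
          simpa using congrArg Units.val hu1
        simp only [hb1, h_sub_left, h_sub_right hF, h_smul_left, h_smul_right hF, hbe, h_symm_zero hF hbe, he]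
        have hbb : h b b = γ * σ γ := by rw [hbd, h_smul_left, h_smul_right hF, D.aniso, mul_one]
        rw [hbb]
        linear_combination this
      have hLy : Lg hF M y := fun c hc k hk => by
        have h1 : (c / (ζ * σ ζ * c0)) ∈ fixK hF := by
          show σ (c / (ζ * σ ζ * c0)) = c / (ζ * σ ζ * c0)
          rw [map_div₀, show σ c = -c by linear_combination hc,
            show σ (ζ * σ ζ * c0) = -(ζ * σ ζ * c0) by linear_combination hPy.skew, neg_div_neg_eq]
        have hk' : k = pl hF hPy (lo ⟨_, h1⟩) := su_ext fun x => by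
          rw [hk, pl_lo hF hPy]
          congr 2
          exact (div_mul_cancel₀ c hPy.d0).symm
        rw [hk']
        exact ((hfull v hvM hζ) ▸ Subgroup.mem_top _ : lo _ ∈ M.comap (pl hF (pair_of hF he hζ hc00 hc0s)))
      have hLz : Lg hF M z := by
        rw [hzy]; exact Lg.move hF hLy hu
      have hZy := hasZ_of hF hq hPy hb1e hb1y hb1b1 hLy hL hA1 hw1 hww
      obtain ⟨b2, hb2⟩ : ∃ b2, b2 = b1 - h b1 z • e := ⟨_, rfl⟩
      have hA2 : Adm hF M e b2 := hb2 ▸ (admGroup hF (M := M) he).sub_mem hA1 (Adm.self hF he hL _)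
      have hez : h e z = 1 := by rw [← h_swap hF, hPz.ye, map_one]
      have hZz := hasZ_of hF hq hPz hA2.1 (b := b2) (by rw [hb2, h_sub_left, h_smul_left, hez, mul_one, sub_self]) (by
        simp only [hb2, h_sub_left, h_sub_right hF, h_smul_left, h_smul_right hF, hb1e, h_symm_zero hF hb1e, he, hb1b1]
        ring) hLz hL hA2 hw1 hww
      have hν : w * w ≠ 0 := mul_ne_zero (fun e0 => hwne (by rw [e0, map_zero])) (fun e0 => hwne (by rw [e0, map_zero]))
      obtain ⟨x, hAd⟩ := adm_diff_z hF hPy hPz hb1e hb1y hν hZy (hb2 ▸ hZz)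
      obtain ⟨Z, hZ, hZ'⟩ := hZy
      set a := (1 - (w * w)⁻¹) • (z - y - h z b1 • b1) + x • e with had
      have hb1P : h b1 P = 0 := by rw [hb1, h_sub_left, h_smul_left, hbP, h_symm_zero hF hPe, mul_zero, sub_zero]
      have hTa : h a P = (1 - (w * w)⁻¹) * T1 := by
        rw [had, hT1d]
        simp only [h_add_left, h_sub_left, h_smul_left, hb1P, h_symm_zero hF hPe]
        ring
      have hTa0 : h a P ≠ 0 := by
        rw [hTa]
        refine mul_ne_zero (fun e0 => hwne ?_) hT1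
        have h1 : w * w = 1 := inv_eq_one.1 (sub_eq_zero.1 e0).symm
        have h2 : w = 0 := by linear_combination h1 - hww
        rw [h2, map_zero]
      have hm := Adm.move hF hAd hZ
      rw [show mat Z *ᵥ e = (w * w) • e by rw [hZ', he, hey, h_symm_zero hF hb1e]; module] at hm
      have hm2 := Adm.of_smul hF hν hm
      refine admissible_all hF D hu hL (fun t a ht hA' => ?_) hAd hm2 hTa0 ?_
      · have : t * t = t := by rw [← pow_two, ← hq, ← frob_apply hF, ht]
        rcases eq_or_ne t 0 with rfl | h0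
        · rw [zero_smul]; exact Adm.zero hF
        · rw [show t = 1 from mul_left_cancel₀ h0 (by rw [this, mul_one]), one_smul]; exact hA'
      · have e1 : h (σ (w * w) • (mat Z *ᵥ a)) P = σ (w * w) * h a P := by
          rw [h_smul_left, hZ', h_add_left, h_add_left, h_add_left, h_smul_left, h_smul_left, h_smul_left, hb1P,
            hAd.1, h_symm_zero hF hPe]
          ring
        rw [e1, mul_div_cancel_right₀ _ hTa0, frob_frob hF, map_mul, hws]
        intro e0
        have h2 := two_zero_of_q hF hq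
        exact one_ne_zero (α := F) (by linear_combination -e0 - w * h2)
    · have hq3 : 3 ≤ q := by have := (UnitaryBasic.frob_exists hF).1; omega
      obtain ⟨t, hts, ht0, ht1⟩ := exists_real_ne_one hF hq3
      have hsc : ∀ s : F, s ≠ 0 → σ s = s → HasSc M e y s := fun s hs0 hss => hasSc_of_top hF _ (hfull v hvM hζ) hs0 hss
      have hscz : HasSc M e z t := by
        have := hasSc_of_top hF _ (hfull (u * v) (mul_mem hu hvM) (by rw [huv]; exact hζ)) ht0 hts
        rwa [huv] at this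
      have hscy' : HasSc M e y' t := hasSc_of_top hF _ (hfull v⁻¹ (inv_mem hvM) hζ') ht0 hts
      obtain ⟨x1, hA1⟩ := adm_diff hF hPy hPz ht0 (hsc t ht0 hts) hscz
      obtain ⟨x2, hA2⟩ := adm_diff hF hPy (pair_of hF he hζ' hc00 hc0s) ht0 (hsc t ht0 hts) hscy'
      have e1 : h ((1 - t) • (z - y) + x1 • e) P = (1 - t) * T1 := by
        rw [h_add_left, h_smul_left, h_smul_left, h_symm_zero hF hPe, mul_zero, add_zero]
      have e2 : h ((1 - t) • (y' - y) + x2 • e) P = (1 - t) * T2 := by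
        rw [h_add_left, h_smul_left, h_smul_left, h_symm_zero hF hPe, mul_zero, add_zero]
      have h1t : 1 - t ≠ 0 := sub_ne_zero.2 ht1.symm
      refine admissible_all hF D hu hL (fun s a hs hA => ?_) hA1 hA2 (by rw [e1]; exact mul_ne_zero h1t hT1)
        (by rw [e1, e2, mul_div_mul_left _ _ h1t]; exact hratio)
      rcases eq_or_ne s 0 with rfl | hs0
      · rw [zero_smul]; exact Adm.zero hF
      · exact adm_smul_fixed hF hPy hL hs0 hs (hsc s hs0 hs) hA
  exact eq_top_of_rad hF hn h32 he hvM hop hRad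

end CfsgLib.UnitReg
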