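import Cfsg.Agent.Lib.UnitReg.Main

/-!
# The regular elements of a hermitian frame
-/

set_option autoImplicit false
set_option linter.unusedSectionVars false
set_option maxHeartbeats 800000

namespace CfsgLib.UnitReg

open Matrix CfsgLib.UnitaryTransvection CfsgLib.UnitarySimple CfsgLib.TwoGenCl.Unit

variable {F : Type*} [Field F] [Fintype F] {q n k : ℕ} (hF : Fintype.card F = q ^ 2) (Fr : Frame F q n k 1)

local notation "h" => Cfsg.hermForm n F q
local notation "σ" => frob hF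

/-- The chain of the frame. -/
def fw : ℕ → (Fin n → F) := fun i =>
  if h1 : i < k then Fr.f ⟨k - 1 - i, by omega⟩
  else if i = k then Fr.u 0
  else if h3 : i - k - 1 < k then Fr.e ⟨i - k - 1, h3⟩ else 0

theorem fw_f {i : ℕ} {j : Fin k} (hij : i + j.val + 1 = k) : fw Fr i = Fr.f j := by
  rw [fw, dif_pos (by omega)]
  congr 1
  exact Fin.ext (by show k - 1 - i = j.val; omega)

theorem fw_u : fw Fr k = Fr.u 0 := by rw [fw, dif_neg (lt_irrefl k), if_pos rfl]

theorem fw_e {i : ℕ} {j : Fin k} (hij : i = k + 1 + j.val) : fw Fr i = Fr.e j := by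
  have := j.isLt
  rw [fw, dif_neg (by omega), if_neg (by omega), dif_pos (by omega)]
  congr 1
  exact Fin.ext (by show i - k - 1 = j.val; omega)

theorem fw_zero {i : ℕ} (hi : n ≤ i) : fw Fr i = 0 := by
  have := Fr.card_eq
  rw [fw, dif_neg (by omega), if_neg (by omega), dif_neg (by omega)]

include hF in
theorem fw_span : chainL (F := F) (fw Fr) 0 = ⊤ := by
  rw [eq_top_iff]
  intro x _
  rw [Fr.expand x]
  refine Submodule.sum_mem _ fun a _ => Submodule.smul_mem _ _ ?_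
  rcases a with (j | j) | l
  · exact Submodule.subset_span ⟨k + 1 + j.val, Nat.zero_le _, fw_e Fr rfl⟩
  · exact Submodule.subset_span ⟨k - 1 - j.val, Nat.zero_le _, fw_f Fr (by have := j.isLt; omega)⟩
  · refine Submodule.subset_span ⟨k, Nat.zero_le _, ?_⟩
    rw [fw_u, Subsingleton.elim l 0]
    rfl

include hF in
/-- The conditions on a chain that only depend on the frame. -/
theorem fw_forms (hk : 1 ≤ k) {P : Fin n → F} (hP : P = if hk2 : 2 ≤ k then Fr.e ⟨k - 2, by omega⟩ else Fr.u 0) :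
    (∀ i, 1 ≤ i → h (fw Fr i) (Fr.e ⟨k - 1, by omega⟩) = 0) ∧ (∀ i, 2 ≤ i → h (fw Fr i) P = 0) ∧
      h (fw Fr 1) P = 1 ∧ h (Fr.f ⟨k - 1, by omega⟩) P = 0 ∧ fw Fr (n - 2) = P := by
  have hn := Fr.card_eq
  have cases3 : ∀ i : ℕ, (∃ j : Fin k, i + j.val + 1 = k ∧ fw Fr i = Fr.f j) ∨ (i = k ∧ fw Fr i = Fr.u 0) ∨
      (∃ j : Fin k, i = k + 1 + j.val ∧ fw Fr i = Fr.e j) ∨ (n ≤ i ∧ fw Fr i = 0) := by
    intro i
    by_cases h1 : i < k
    · exact Or.inl ⟨⟨k - 1 - i, by omega⟩, by show i + (k - 1 - i) + 1 = k; omega,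
        fw_f Fr (by show i + (k - 1 - i) + 1 = k; omega)⟩
    · by_cases h2 : i = k
      · subst h2; exact Or.inr (Or.inl ⟨rfl, fw_u Fr⟩)
      · by_cases h3 : i < n
        · exact Or.inr (Or.inr (Or.inl ⟨⟨i - k - 1, by omega⟩, by show i = k + 1 + (i - k - 1); omega,
            fw_e Fr (by show i = k + 1 + (i - k - 1); omega)⟩))
        · exact Or.inr (Or.inr (Or.inr ⟨by omega, fw_zero Fr (by omega)⟩))
  refine ⟨fun i hi => ?_, fun i hi => ?_, ?_, ?_, ?_⟩
  · rcases cases3 i with ⟨j, hj, e1⟩ | ⟨-, e1⟩ | ⟨j, -, e1⟩ | ⟨-, e1⟩ <;> rw [e1]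
    · rw [Fr.fe, if_neg fun e2 => by have := congrArg Fin.val e2; simp at this; omega]
    · exact Fr.ue _ _
    · exact Fr.ee _ _
    · exact h_zero_left _
  · subst hP
    split_ifs with hk2
    · rcases cases3 i with ⟨j, hj, e1⟩ | ⟨-, e1⟩ | ⟨j, -, e1⟩ | ⟨-, e1⟩ <;> rw [e1]
      · rw [Fr.fe, if_neg fun e2 => by have := congrArg Fin.val e2; simp at this; omega]
      · exact Fr.ue _ _
      · exact Fr.ee _ _
      · exact h_zero_left _
    · rcases cases3 i with ⟨j, hj, e1⟩ | ⟨hj, e1⟩ | ⟨j, -, e1⟩ | ⟨-, e1⟩ <;> rw [e1]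
      · exact Fr.fu _ _
      · omega
      · exact Fr.eu _ _
      · exact h_zero_left _
  · subst hP
    split_ifs with hk2
    · rw [fw_f Fr (j := ⟨k - 2, by omega⟩) (by show 1 + (k - 2) + 1 = k; omega), Fr.fe, if_pos rfl]
    · obtain rfl : k = 1 := by omega
      rw [fw_u, Fr.uu]
  · subst hP
    split_ifs with hk2
    · rw [Fr.fe, if_neg fun e2 => by have := congrArg Fin.val e2; simp at this; omega]
    · exact Fr.fu _ _
  · subst hP
    split_ifs with hk2
    · exact fw_e Fr (by show n - 2 = k + 1 + (k - 2); omega)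
    · obtain rfl : k = 1 := by omega
      rw [show n - 2 = 1 by omega, fw_u]

include hF in
theorem data_small (hk : k = 1) : ∃ (u : Cfsg.SU n F q) (P : Fin n → F),
    P = Fr.u 0 ∧ Nonempty (Data hF u (Fr.e ⟨k - 1, by omega⟩) (Fr.f ⟨k - 1, by omega⟩) P) := by
  subst hk
  have hn := Fr.card_eq
  obtain ⟨t, ht⟩ := exists_trace_one hF
  have hs : h (Fr.u 0) (Fr.u 0) + -t + σ (-t) = 0 := by rw [Fr.uu, map_neg]; linear_combination -ht
  obtain ⟨u, hu⟩ := exists_um hF (Fr.ee 0 0) (Fr.ue 0 0) hs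
  obtain ⟨hor, horP, h1P, hphP, hpen⟩ := fw_forms hF Fr le_rfl (P := Fr.u 0) (by simp)
  have h0 : fw Fr 0 = Fr.f 0 := fw_f Fr (by simp)
  have h1 : fw Fr 1 = Fr.u 0 := fw_u Fr
  have h2 : fw Fr 2 = Fr.e 0 := fw_e Fr (by simp)
  refine ⟨u, _, rfl, ⟨{
    w := fw Fr, c := fun i => if i = 1 then -1 else 1, i0 := 1, hn := by omega, czero := fun i hi => fw_zero Fr hi,
    span := fw_span hF Fr, step := fun i => ?_, cne := fun i => by split_ifs <;> simp,
    cfix := fun i => by split_ifs <;> simp, first := h0, pen := hpen, last := by rw [show n - 1 = 2 by omega]; exact h2,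
    phie := by rw [Fr.fe]; simp, phiphi := Fr.ff _ _, phiP := hphP, orth := hor, orthP := horP, oneP := h1P,
    i0_pos := le_rfl, i0_le := by omega, aniso := by rw [h1, Fr.uu],
    small := fun _ => ⟨by omega, -t, hu⟩, trne := ?_ }⟩⟩
  · rw [dk_apply, hu]
    match i with
    | 0 =>
      rw [h0, h1, if_neg zero_ne_one, umat_mulVec, Fr.fe, if_pos rfl, Fr.fu]
      simp only [one_smul, zero_smul, sub_zero, mul_one]
      have e1 : Fr.f 0 + Fr.u 0 + (-t) • Fr.e 0 - Fr.f 0 - Fr.u 0 = (-t) • Fr.e 0 := by abel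
      rw [e1, ← h2]
      exact Submodule.smul_mem _ _ (Submodule.subset_span ⟨2, le_refl 2, rfl⟩)
    | 1 =>
      rw [h1, h2, if_pos rfl, umat_mulVec, Fr.ue, Fr.uu, mul_zero, zero_smul, zero_smul, one_smul]
      have e1 : Fr.u 0 + 0 - Fr.e 0 + 0 - Fr.u 0 - (-1 : F) • Fr.e 0 = 0 := by module
      rw [e1]
      exact Submodule.zero_mem _
    | 2 =>
      rw [h2, fw_zero Fr (show n ≤ 2 + 1 by omega), umat_mulVec, Fr.ee, Fr.eu, mul_zero, zero_smul, smul_zero]
      simp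
    | m + 3 =>
      rw [fw_zero Fr (show n ≤ m + 3 by omega), fw_zero Fr (show n ≤ m + 3 + 1 by omega)]
      simp
  · have e1 : h (mat u *ᵥ Fr.f ⟨1 - 1, by omega⟩) (Fr.f ⟨1 - 1, by omega⟩) = -t := by
      show h (mat u *ᵥ Fr.f 0) (Fr.f 0) = -t
      rw [hu, umat_mulVec, Fr.fe, if_pos rfl, Fr.fu]
      simp only [one_smul, zero_smul, sub_zero, h_add_left, h_smul_left, Fr.ff, Fr.uf, Fr.ef, if_true]
      ring
    rw [e1, map_neg, ← neg_add, add_comm, ht]
    simp

include hF in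
theorem data_big (hk : 2 ≤ k) : ∃ (u : Cfsg.SU n F q) (P : Fin n → F),
    P = Fr.e ⟨k - 2, by omega⟩ ∧ Nonempty (Data hF u (Fr.e ⟨k - 1, by omega⟩) (Fr.f ⟨k - 1, by omega⟩) P) := by
  haveI : NeZero k := ⟨by omega⟩
  have hn := Fr.card_eq
  obtain ⟨t, ht⟩ := exists_trace_one hF
  set s := -t with hsd
  have hs : h (Fr.u 0) (Fr.u 0) + s + σ s = 0 := by rw [Fr.uu, hsd, map_neg]; linear_combination -ht
  set top : Fin k := ⟨k - 1, by omega⟩ with htop
  obtain ⟨X, hX⟩ := exists_um hF (Fr.ee 0 0) (Fr.ue 0 0) hs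
  obtain ⟨Y, hY⟩ := exists_um hF (Fr.ee top top) (Fr.ue 0 top) hs
  let B : Matrix (Fin k) (Fin k) F := fun i j => if i = j ∨ i.val = j.val + 1 then 1 else 0
  have hB : B.det = 1 := by
    rw [Matrix.det_of_lowerTriangular B (fun i j hij => if_neg (by
      have : i < j := hij
      rintro (rfl | e)
      · exact lt_irrefl _ this
      · have := Fin.lt_def.1 this; omega))]
    exact Finset.prod_eq_one fun i _ => if_pos (Or.inl rfl)
  let Bu : GL (Fin k) F := Matrix.nonsingInvUnit B (by rw [hB]; exact isUnit_one)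
  have hBu : Bu.1 = B := rfl
  have okA : Frame.Ok (r := 1) hF (Bu, 1) := ⟨by simp, by rw [hBu, hB]; simp⟩
  set A := Fr.levi hF _ okA with hA
  have hAe : ∀ i j : Fin k, i.val + 1 = j.val → mat A *ᵥ Fr.e i = Fr.e i + Fr.e j := by
    intro i j hij
    have hne : i ≠ j := fun e0 => by subst e0; omega
    rw [hA, Fr.levi_e, Finset.sum_eq_add i j hne]
    · simp [hBu, B, hij.symm]
    · intro c _ hc
      simp only [hBu, B]
      rw [if_neg, zero_smul]
      rintro (e0 | e0)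
      · exact hc.1 e0
      · exact hc.2 (Fin.ext (by omega))
    · simp
    · simp
  have hAtop : mat A *ᵥ Fr.e top = Fr.e top := by
    rw [hA, Fr.levi_e, Finset.sum_eq_single top]
    · simp [hBu, B]
    · intro c _ hc
      simp only [hBu, B]
      rw [if_neg, zero_smul]
      rintro (e0 | e0)
      · exact hc e0
      · have := c.isLt; simp [htop] at e0; omega
    · simp
  have hAu : mat A *ᵥ Fr.u 0 = Fr.u 0 := by rw [hA, Fr.levi_u, Units.val_one, one_smul]
  have hAinv : ∀ x, mat A *ᵥ (Fr.mx (Frame.lev (r := 1) hF ((Bu, (1 : Fˣ))⁻¹)) *ᵥ x) = x := fun x => by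
    show Fr.mx (Frame.lev hF (Bu, 1)) *ᵥ _ = _
    rw [mulVec_mulVec, ← map_mul, ← Frame.lev_mul, mul_inv_cancel, Frame.lev_one, map_one, one_mulVec]
  have hfinv : ∀ j : Fin k, Fr.mx (Frame.lev (r := 1) hF ((Bu, (1 : Fˣ))⁻¹)) *ᵥ Fr.f j =
      ∑ i, σ (B j i) • Fr.f i := fun j => by
    rw [Frame.f, Fr.mx_mulVec]
    simp [Frame.lev, Fintype.sum_sum_type, Frame.f, Prod.inv_mk, hBu]
  have hAf0 : mat A *ᵥ Fr.f 0 = Fr.f 0 := by
    have := hAinv (Fr.f 0)
    rw [hfinv, Finset.sum_eq_single (0 : Fin k) (fun c _ hc => ?_) (by simp)] at this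
    · simpa [B] using this
    · simp only [B]
      rw [if_neg, map_zero, zero_smul]
      rintro (e0 | e0)
      · exact hc e0.symm
      · simp at e0
  have hAf : ∀ i j : Fin k, i.val + 1 = j.val → mat A *ᵥ Fr.f j = Fr.f j - mat A *ᵥ Fr.f i := by
    intro i j hij
    have hne : i ≠ j := fun e0 => by subst e0; omega
    have := hAinv (Fr.f j)
    rw [hfinv, Finset.sum_eq_add i j hne] at this
    · simp [B, hij.symm] at this
      rw [eq_sub_iff_add_eq]
      rwa [mulVec_add, add_comm] at this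
    · intro c _ hc
      simp only [B]
      rw [if_neg, map_zero, zero_smul]
      rintro (e0 | e0)
      · exact hc.2 e0.symm
      · exact hc.1 (Fin.ext (by omega))
    · simp
    · simp
  let Lf : ℕ → Submodule F (Fin n → F) := fun m => Submodule.span F (Fr.f '' {i | i.val < m})
  have hLf : ∀ j : Fin k, mat A *ᵥ Fr.f j - Fr.f j ∈ Lf j.val := by
    intro ⟨j, hj⟩
    induction j with
    | zero =>
      rw [show (⟨0, hj⟩ : Fin k) = 0 from Fin.ext (by simp), hAf0, sub_self]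
      exact Submodule.zero_mem _
    | succ j ih =>
      have h1 := hAf ⟨j, by omega⟩ ⟨j + 1, hj⟩ rfl
      rw [h1, sub_sub_cancel_left]
      refine Submodule.neg_mem _ ?_
      have h2 : Lf j ≤ Lf (j + 1) := Submodule.span_mono (Set.image_mono fun i hi => Nat.lt_succ_of_lt hi)
      have h3 := Submodule.add_mem _ (h2 (ih (by omega)))
        (Submodule.subset_span ⟨⟨j, by omega⟩, Nat.lt_succ_self j, rfl⟩ : Fr.f ⟨j, by omega⟩ ∈ Lf (j + 1))
      rwa [sub_add_cancel] at h3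
  have hYe : ∀ i, mat Y *ᵥ Fr.e i = Fr.e i := fun i => by
    rw [hY, umat_mulVec, Fr.ee, Fr.eu, mul_zero, zero_smul, zero_smul]; abel
  have hYu : mat Y *ᵥ Fr.u 0 = Fr.u 0 - Fr.e top := by
    rw [hY, umat_mulVec, Fr.ue, Fr.uu, mul_zero]; module
  have hYf : ∀ i : Fin k, i ≠ top → mat Y *ᵥ Fr.f i = Fr.f i := fun i hi => by
    rw [hY, umat_mulVec, Fr.fe, if_neg (Ne.symm hi), Fr.fu, mul_zero, zero_smul, zero_smul]; abel
  have hYtop : mat Y *ᵥ Fr.f top = Fr.f top + Fr.u 0 + s • Fr.e top := by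
    rw [hY, umat_mulVec, Fr.fe, if_pos rfl, Fr.fu, mul_one, one_smul, zero_smul]; abel
  have hYL : ∀ {m : ℕ}, m ≤ k - 1 → ∀ x ∈ Lf m, mat Y *ᵥ x = x := by
    intro m hm x hx
    induction hx using Submodule.span_induction with
    | mem x hx =>
      obtain ⟨i, hi, rfl⟩ := hx
      exact hYf i fun e0 => by
        have h1 : i.val < m := hi
        have h2 := congrArg Fin.val e0
        simp [htop] at h2; omega
    | zero => exact mulVec_zero _
    | add a b _ _ ha hb => rw [mulVec_add, ha, hb]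
    | smul c a _ ha => rw [mulVec_smul, ha]
  have hXe : ∀ i, mat X *ᵥ Fr.e i = Fr.e i := fun i => by
    rw [hX, umat_mulVec, Fr.ee, Fr.eu, mul_zero, zero_smul, zero_smul]; abel
  have hXu : mat X *ᵥ Fr.u 0 = Fr.u 0 - Fr.e 0 := by
    rw [hX, umat_mulVec, Fr.ue, Fr.uu, mul_zero]; module
  have hXf : ∀ i : Fin k, i ≠ 0 → mat X *ᵥ Fr.f i = Fr.f i := fun i hi => by
    rw [hX, umat_mulVec, Fr.fe, if_neg (Ne.symm hi), Fr.fu, mul_zero, zero_smul, zero_smul]; abel
  have hX0 : mat X *ᵥ Fr.f 0 = Fr.f 0 + Fr.u 0 + s • Fr.e 0 := by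
    rw [hX, umat_mulVec, Fr.fe, if_pos rfl, Fr.fu, mul_one, one_smul, zero_smul]; abel
  have htop0 : (0 : Fin k) ≠ top := fun e0 => by have := congrArg Fin.val e0; simp [htop] at this; omega
  have hone : (⟨1, hk⟩ : Fin k).val = (0 : Fin k).val + 1 := by simp
  set u := Y * A * X with hu
  have hmu : ∀ x, mat u *ᵥ x = mat Y *ᵥ (mat A *ᵥ (mat X *ᵥ x)) := fun x => by
    rw [hu, mat_mul, mat_mul, ← mulVec_mulVec, ← mulVec_mulVec]
  have sub_mem : ∀ {i m : ℕ}, i + m + 1 ≤ k → Lf m ≤ chainL (F := F) (fw Fr) (k - m) := fun {i m} _ => by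
    rw [Submodule.span_le]
    rintro _ ⟨j, hj, rfl⟩
    have h1 : j.val < m := hj
    exact Submodule.subset_span ⟨k - 1 - j.val, by show k - m ≤ k - 1 - j.val; omega,
      fw_f Fr (by have := j.isLt; omega)⟩
  obtain ⟨hor, horP, h1P, hphP, hpen⟩ := fw_forms hF Fr (by omega) (P := Fr.e ⟨k - 2, by omega⟩) (by rw [dif_pos hk])
  have hf0 : fw Fr 0 = Fr.f top := fw_f Fr (by simp [htop]; omega)
  refine ⟨u, _, rfl, ⟨{
    w := fw Fr, c := fun i => if i + 1 < k ∨ i = k then -1 else 1, i0 := k, hn := by omega,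
    czero := fun i hi => fw_zero Fr hi, span := fw_span hF Fr, step := fun i => ?_,
    cne := fun i => by split_ifs <;> simp, cfix := fun i => by split_ifs <;> simp, first := hf0, pen := hpen,
    last := fw_e Fr (by show n - 1 = k + 1 + (k - 1); omega), phie := by rw [Fr.fe, if_pos rfl],
    phiphi := Fr.ff _ _, phiP := hphP, orth := hor, orthP := horP, oneP := h1P,
    i0_pos := by omega, i0_le := by omega, aniso := by rw [fw_u, Fr.uu],
    small := fun e0 => by omega, trne := ?_ }⟩⟩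
  · have mem : ∀ (j : ℕ), i + 2 ≤ j → fw Fr j ∈ chainL (F := F) (fw Fr) (i + 2) := fun j hj =>
      Submodule.subset_span ⟨j, hj, rfl⟩
    have hetop : i + 2 ≤ 2 * k → Fr.e top ∈ chainL (F := F) (fw Fr) (i + 2) := fun hh => by
      rw [← fw_e Fr (i := 2 * k) (j := top) (by simp [htop]; omega)]; exact mem _ hh
    rw [dk_apply]
    rcases lt_trichotomy (i + 1) k with h1 | h1 | h1
    · -- vectors `f j`, `j ≥ 1`
      simp only [if_pos (Or.inl h1 : i + 1 < k ∨ i = k)]
      set j : Fin k := ⟨k - 1 - i, by omega⟩ with hj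
      set j' : Fin k := ⟨k - 2 - i, by omega⟩ with hj'
      have hjj : j'.val + 1 = j.val := by simp [hj, hj']; omega
      rw [fw_f Fr (i := i) (j := j) (by simp [hj]; omega), fw_f Fr (i := i + 1) (j := j') (by simp [hj']; omega), hmu,
        hXf j (fun e0 => by have := congrArg Fin.val e0; simp [hj] at this; omega), hAf j' j hjj,
        mulVec_sub]
      have hz := hLf j'
      have hzY : mat Y *ᵥ (mat A *ᵥ Fr.f j') = mat A *ᵥ Fr.f j' := by
        rw [show mat A *ᵥ Fr.f j' = (mat A *ᵥ Fr.f j' - Fr.f j') + Fr.f j' by abel, mulVec_add,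
          hYL (by have := j'.isLt; omega) _ hz,
          hYf j' fun e0 => by have := congrArg Fin.val e0; simp [hj', htop] at this; omega]
      rw [hzY]
      have hz' : mat A *ᵥ Fr.f j' - Fr.f j' ∈ chainL (F := F) (fw Fr) (i + 2) := by
        have := sub_mem (i := 0) (m := j'.val) (by have := j'.isLt; omega) hz
        rwa [show k - j'.val = i + 2 by simp [hj']; omega] at this
      by_cases hi : i = 0
      · subst hi
        rw [show j = top from Fin.ext (by simp [hj, htop]), hYtop]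
        have e1 : Fr.f top + Fr.u 0 + s • Fr.e top - mat A *ᵥ Fr.f j' - Fr.f top - (-1 : F) • Fr.f j' =
            Fr.u 0 + s • Fr.e top - (mat A *ᵥ Fr.f j' - Fr.f j') := by module
        rw [e1]
        refine Submodule.sub_mem _ (Submodule.add_mem _ ?_ (Submodule.smul_mem _ _ (hetop (by omega)))) hz'
        rw [← fw_u Fr]; exact mem _ hk
      · rw [hYf j fun e0 => by have := congrArg Fin.val e0; simp [hj, htop] at this; omega]
        have e1 : Fr.f j - mat A *ᵥ Fr.f j' - Fr.f j - (-1 : F) • Fr.f j' = -(mat A *ᵥ Fr.f j' - Fr.f j') := by module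
        rw [e1]
        exact Submodule.neg_mem _ hz'
    · -- `f 0`
      simp only [if_neg (show ¬ (i + 1 < k ∨ i = k) by omega)]
      rw [fw_f Fr (i := i) (j := 0) (by simp; omega), h1, fw_u, hmu, hX0]
      simp only [mulVec_add, mulVec_smul, hAf0, hAu, hAe 0 ⟨1, hk⟩ (by simp), hYf 0 htop0, hYu, hYe]
      have e1 : Fr.f 0 + (Fr.u 0 - Fr.e top) + s • (Fr.e 0 + Fr.e ⟨1, hk⟩) - Fr.f 0 - (1 : F) • Fr.u 0 =
          s • (Fr.e 0 + Fr.e ⟨1, hk⟩) - Fr.e top := by module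
      rw [e1]
      refine Submodule.sub_mem _ (Submodule.smul_mem _ _ (Submodule.add_mem _ ?_ ?_)) (hetop (by omega))
      · rw [← fw_e Fr (i := k + 1) (j := 0) (by simp)]; exact mem _ (by omega)
      · rw [← fw_e Fr (i := k + 2) (j := ⟨1, hk⟩) (by simp)]; exact mem _ (by omega)
    · by_cases h2 : i = k
      · -- the middle vector
        subst h2
        simp only [or_true, if_true]
        rw [fw_u, fw_e Fr (i := i + 1) (j := 0) (by simp), hmu, hXu, mulVec_sub, hAu, hAe 0 ⟨1, hk⟩ (by simp),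
          mulVec_sub, mulVec_add, hYu, hYe, hYe]
        have e1 : Fr.u 0 - Fr.e top - (Fr.e 0 + Fr.e ⟨1, hk⟩) - Fr.u 0 - (-1 : F) • Fr.e 0 =
            -(Fr.e top + Fr.e ⟨1, hk⟩) := by module
        rw [e1]
        refine Submodule.neg_mem _ (Submodule.add_mem _ (hetop (by omega)) ?_)
        rw [← fw_e Fr (i := i + 2) (j := ⟨1, hk⟩) (by simp)]; exact mem _ le_rfl
      · simp only [if_neg (show ¬ (i + 1 < k ∨ i = k) by omega)]
        by_cases h3 : n ≤ i
        · rw [fw_zero Fr h3, fw_zero Fr (by omega)]; simp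
        · set j : Fin k := ⟨i - k - 1, by omega⟩ with hj
          rw [fw_e Fr (i := i) (j := j) (by simp [hj]; omega), hmu, hXe]
          by_cases h4 : i + 1 < n
          · set j' : Fin k := ⟨i - k, by omega⟩ with hj'
            rw [hAe j j' (by simp [hj, hj']; omega), mulVec_add, hYe, hYe,
              fw_e Fr (i := i + 1) (j := j') (by simp [hj']; omega)]
            simp
          · rw [show j = top from Fin.ext (by simp [hj, htop]; omega), hAtop, hYe, fw_zero Fr (by omega)]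
            simp
  · set p : Fin k := ⟨k - 2, by omega⟩
    have hpt : p.val + 1 = top.val := by simp [p, htop]; omega
    have hz := hLf p
    have e1 : h (mat u *ᵥ Fr.f top) (Fr.f top) = s := by
      rw [hmu, hXf top (Ne.symm htop0), hAf p top hpt, mulVec_sub, hYtop]
      have hzY : mat Y *ᵥ (mat A *ᵥ Fr.f p) = mat A *ᵥ Fr.f p := by
        rw [show mat A *ᵥ Fr.f p = (mat A *ᵥ Fr.f p - Fr.f p) + Fr.f p by abel, mulVec_add,
          hYL (by omega) _ hz, hYf p fun e0 => by have := congrArg Fin.val e0; simp [p, htop] at this; omega]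
      have hh : ∀ x ∈ Lf p.val, h x (Fr.f top) = 0 := fun x hx => by
        induction hx using Submodule.span_induction with
        | mem x hx => obtain ⟨i, -, rfl⟩ := hx; exact Fr.ff _ _
        | zero => exact h_zero_left _
        | add a b _ _ ha hb => rw [h_add_left, ha, hb, add_zero]
        | smul c a _ ha => rw [h_smul_left, ha, mul_zero]
      rw [hzY, show mat A *ᵥ Fr.f p = (mat A *ᵥ Fr.f p - Fr.f p) + Fr.f p by abel]
      simp only [h_sub_left, h_add_left, h_smul_left, Fr.ff, Fr.uf, Fr.ef, if_true]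
      have := hh _ hz
      rw [h_sub_left, Fr.ff, sub_zero] at this
      rw [this]
      ring
    rw [e1, hsd, map_neg, ← neg_add, add_comm, ht]
    simp

include hF in
theorem exists_scalar (d : F) (hd0 : d ≠ 0) :
    ∃ w : Fˣ, σ (d * (w : F)) ≠ d * (w : F) := by
  by_cases hd : σ d = d
  · obtain ⟨ω, hω, -⟩ := exists_gen hF
    refine ⟨ω, fun e => ?_⟩
    rw [map_mul, hd] at e
    have h1 := mul_left_cancel₀ hd0 e
    rw [frob_apply] at h1
    have hq := (UnitaryBasic.frob_exists hF).1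
    have h2 : ω ^ (q - 1) = 1 := Units.ext (by
      rw [Units.val_pow_eq_pow_val, Units.val_one]
      refine mul_right_cancel₀ ω.ne_zero ?_
      rw [← pow_succ, one_mul, show q - 1 + 1 = q by omega, h1])
    have h3 := Nat.le_of_dvd (by omega) (hω ▸ orderOf_dvd_of_pow_eq_one h2)
    have h4 : 2 * q ≤ q ^ 2 := by rw [pow_two]; exact Nat.mul_le_mul_right q hq
    omega
  · exact ⟨1, by simpa using hd⟩

include hF in
theorem theta_big (hk : 2 ≤ k) : ∃ (θ : Cfsg.SU n F q) (α μ : F),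
    mat θ *ᵥ Fr.f ⟨k - 1, by omega⟩ = α • Fr.e ⟨k - 1, by omega⟩ ∧
      mat θ⁻¹ *ᵥ Fr.e ⟨k - 2, by omega⟩ = μ • Fr.e ⟨k - 2, by omega⟩ ∧ σ (α * μ) ≠ α * μ := by
  haveI : NeZero k := ⟨by omega⟩
  obtain ⟨d, hd0, hd⟩ := exists_skew hF
  obtain ⟨w, hw⟩ := exists_scalar hF d hd0
  set top : Fin k := ⟨k - 1, by omega⟩ with htop
  set p : Fin k := ⟨k - 2, by omega⟩ with hp'
  have hpt : p ≠ top := fun e => by have := congrArg Fin.val e; simp [hp', htop] at this; omega
  have ok : Frame.Ok (r := 1) hF (dg k (Pi.mulSingle p w), tw hF w) := by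
    refine ⟨tw_norm hF w, ?_⟩
    show _ * (tw hF w : F) ^ 1 = _
    rw [dg_det, Finset.prod_eq_single p (fun i _ hi => by rw [Pi.mulSingle_eq_of_ne hi, Units.val_one])
      (by simp), Pi.mulSingle_eq_same, pow_one, tw_val, mul_div_cancel₀ _ w.ne_zero]
  set L := Fr.levi hF _ ok with hL
  refine ⟨L * Fr.flipAt hF top hd, -d⁻¹, (w : F)⁻¹, ?_, ?_, ?_⟩
  · rw [mat_mul, ← mulVec_mulVec, Fr.flipAt_f hF top hd0 hd, mulVec_smul, hL, Fr.levi_dg_e,
      Pi.mulSingle_eq_of_ne (Ne.symm hpt), Units.val_one, one_smul]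
  · have e : mat (L * Fr.flipAt hF top hd) *ᵥ Fr.e p = (w : F) • Fr.e p := by
      rw [mat_mul, ← mulVec_mulVec, Fr.flipAt_fix hF top hd (Fr.ee _ _) (by rw [Fr.ef, if_neg (Ne.symm hpt)]), hL,
        Fr.levi_dg_e, Pi.mulSingle_eq_same]
    conv_lhs => rw [show Fr.e p = (w : F)⁻¹ • (mat (L * Fr.flipAt hF top hd) *ᵥ Fr.e p) by
      rw [e, smul_smul, inv_mul_cancel₀ w.ne_zero, one_smul]]
    rw [mulVec_smul, mat_inv_mulVec']
  · rw [show -d⁻¹ * (w : F)⁻¹ = -(d * (w : F))⁻¹ by rw [mul_inv, neg_mul], map_neg, map_inv₀]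
    exact fun e => hw (inv_injective (neg_injective e))

include hF in
theorem theta_small (hk : k = 1) (hq : q ≠ 2) : ∃ (θ : Cfsg.SU n F q) (α μ : F),
    mat θ *ᵥ Fr.f ⟨k - 1, by omega⟩ = α • Fr.e ⟨k - 1, by omega⟩ ∧
      mat θ⁻¹ *ᵥ Fr.u 0 = μ • Fr.u 0 ∧ σ (α * μ) ≠ α * μ := by
  subst hk
  obtain ⟨d, hd0, hd⟩ := exists_skew hF
  obtain ⟨ω, hω, -⟩ := exists_gen hF
  have hq2 := (UnitaryBasic.frob_exists hF).1
  have hσd : σ d = -d := by linear_combination hd
  have okψ : ∀ w : Fˣ, Frame.Ok (r := 1) hF (dg 1 (fun _ => w), tw hF w) := fun w => by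
    refine ⟨tw_norm hF w, ?_⟩
    show _ * (tw hF w : F) ^ 1 = _
    rw [dg_det, Fin.prod_univ_one, pow_one, tw_val, mul_div_cancel₀ _ w.ne_zero]
  have key : ∀ w : Fˣ, σ (-d⁻¹ * (w : F) * ((w : F) / σ (w : F))) ≠ -d⁻¹ * (w : F) * ((w : F) / σ (w : F)) →
      ∃ (θ : Cfsg.SU n F q) (α μ : F), mat θ *ᵥ Fr.f 0 = α • Fr.e 0 ∧
        mat θ⁻¹ *ᵥ Fr.u 0 = μ • Fr.u 0 ∧ σ (α * μ) ≠ α * μ := by
    intro w hw
    refine ⟨Fr.levi hF _ (okψ w) * Fr.flipAt hF 0 hd, -d⁻¹ * (w : F), (w : F) / σ (w : F), ?_, ?_, hw⟩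
    · rw [mat_mul, ← mulVec_mulVec, Fr.flipAt_f hF 0 hd0 hd, mulVec_smul, Fr.levi_dg_e, smul_smul]
    · have e : mat (Fr.levi hF _ (okψ w) * Fr.flipAt hF 0 hd) *ᵥ Fr.u 0 = (σ (w : F) / (w : F)) • Fr.u 0 := by
        rw [mat_mul, ← mulVec_mulVec, Fr.flipAt_fix hF 0 hd (Fr.ue _ _) (Fr.uf _ _), Fr.levi_u, tw_val]
      have hne : σ (w : F) / (w : F) ≠ 0 := div_ne_zero (by simp) w.ne_zero
      conv_lhs => rw [show Fr.u 0 = (σ (w : F) / (w : F))⁻¹ • (mat (Fr.levi hF _ (okψ w) * Fr.flipAt hF 0 hd) *ᵥ Fr.u 0) by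
        rw [e, smul_smul, inv_mul_cancel₀ hne, one_smul]]
      rw [mulVec_smul, mat_inv_mulVec', inv_div]
  by_cases h2 : (2 : F) = 0
  · refine key ω fun e => ?_
    have hdd : σ d = d := by linear_combination hσd - d * h2
    have hω0 := ω.ne_zero
    have hs0 : σ (ω : F) ≠ 0 := by simp
    rw [map_mul, map_mul, map_neg, map_inv₀, hdd, map_div₀, frob_frob hF, mul_assoc, mul_assoc] at e
    have h1 := mul_left_cancel₀ (neg_ne_zero.2 (inv_ne_zero hd0)) e
    field_simp at h1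
    have h3 : σ (ω : F) ^ 3 = (ω : F) ^ 3 := by linear_combination h1
    rw [frob_apply, ← pow_mul] at h3
    have h4 : ω ^ (3 * q - 3) = 1 := Units.ext (by
      rw [Units.val_pow_eq_pow_val, Units.val_one]
      refine mul_right_cancel₀ (pow_ne_zero 3 hω0) ?_
      rw [← pow_add, one_mul, show 3 * q - 3 + 3 = q * 3 by omega, h3])
    have h5 := Nat.le_of_dvd (by omega) (hω ▸ orderOf_dvd_of_pow_eq_one h4)
    have h6 : 3 * q ≤ q ^ 2 := by rw [pow_two]; exact Nat.mul_le_mul_right q (by omega)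
    omega
  · refine key 1 fun e => ?_
    simp [map_inv₀, hσd] at e
    exact h2 ((mul_eq_zero.1 (show (2 : F) * d⁻¹ = 0 by linear_combination e)).resolve_right (inv_ne_zero hd0))

include hF in
/-- Three conjugates of a regular unipotent element generate the odd-dimensional group. -/
theorem three_generate (hn : 3 ≤ n) (hodd : Odd n) (h32 : ¬ (n = 3 ∧ q = 2)) :
    ∃ u g f : Cfsg.SU n F q, ((mat u - 1) ^ n = 0 ∧ (mat u - 1) ^ (n - 1) ≠ 0) ∧
      Subgroup.closure ({u, g * u * g⁻¹, f * u * f⁻¹} : Set (Cfsg.SU n F q)) = ⊤ := by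
  obtain ⟨k, hk⟩ := hodd
  obtain ⟨Fr⟩ := exists_frame hF (n := n) k 1 (by omega)
  by_cases hk2 : 2 ≤ k
  · obtain ⟨u, P, rfl, ⟨D⟩⟩ := data_big hF Fr hk2
    obtain ⟨θ, α, μ, e1, e2, e3⟩ := theta_big hF Fr hk2
    obtain ⟨g, hg⟩ := generate hF D h32 e1 e2 e3
    exact ⟨u, g, θ, D.regular hF, hg⟩
  · obtain ⟨u, P, rfl, ⟨D⟩⟩ := data_small hF Fr (by omega)
    obtain ⟨θ, α, μ, e1, e2, e3⟩ := theta_small hF Fr (by omega) (fun e => h32 ⟨by omega, e⟩)
    obtain ⟨g, hg⟩ := generate hF D h32 e1 e2 e3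
    exact ⟨u, g, θ, D.regular hF, hg⟩

end CfsgLib.UnitReg
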