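import Cfsg.Agent.Lib.TwoGenClassical.UnitTools
import Cfsg.Agent.Lib.MaxSub.PlaneGeneration
import Cfsg.Agent.Lib.Dickson.Main

/-!
# The special linear group of a hyperbolic plane inside the special unitary group
-/

set_option autoImplicit false
set_option linter.unusedSectionVars false

namespace CfsgLib.UnitReg

open Matrix CfsgLib.UnitaryTransvection CfsgLib.UnitarySimple CfsgLib.TwoGenCl.Unit
open CfsgLib.Dickson (up lo)

variable {F : Type*} [Field F] [Fintype F] {q n : ℕ} (hF : Fintype.card F = q ^ 2)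

local notation "h" => Cfsg.hermForm n F q
local notation "σ" => frob hF

/-- The fixed field. -/
noncomputable abbrev fixK : Subfield F := RingHom.eqLocusField σ (RingHom.id F)

theorem fixK_eq (x : fixK hF) : σ (x : F) = x := x.2

/-- A hyperbolic pair with a skew scalar. -/
structure Pair (e y : Fin n → F) (d : F) : Prop where
  ee : h e e = 0
  yy : h y y = 0
  ye : h y e = 1
  d0 : d ≠ 0
  skew : d + σ d = 0

variable {e y : Fin n → F} {d : F}

theorem Pair.ey (P : Pair hF e y d) : h e y = 1 := by rw [← h_swap hF, P.ye, map_one]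

/-- The column part. -/
def pU (e y : Fin n → F) (d : F) : Matrix (Fin n) (Fin 2) F := fun i j => if j = 0 then e i else d * y i

/-- The row part. -/
def pV (q : ℕ) (e y : Fin n → F) (d : F) : Matrix (Fin 2) (Fin n) F := fun i j => if i = 0 then y j ^ q else d⁻¹ * e j ^ q

theorem pV_mulVec (x : Fin n → F) : pV q e y d *ᵥ x = ![h x y, d⁻¹ * h x e] := by
  funext i
  fin_cases i <;> simp only [pV, Matrix.mulVec, dotProduct, Cfsg.hermForm] <;>
    simp [Finset.mul_sum, mul_comm, mul_left_comm, mul_assoc]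

theorem pU_mulVec (c : Fin 2 → F) : pU e y d *ᵥ c = c 0 • e + c 1 • d • y := by
  funext i
  simp [pU, Matrix.mulVec, dotProduct, Fin.sum_univ_two]
  ring

/-- The matrix on the plane, trivial on the orthogonal complement. -/
def pmat (q : ℕ) (e y : Fin n → F) (d : F) (A : Matrix (Fin 2) (Fin 2) F) : Matrix (Fin n) (Fin n) F :=
  1 + pU e y d * ((A - 1) * pV q e y d)

theorem pmat_mulVec (A : Matrix (Fin 2) (Fin 2) F) (x : Fin n → F) :
    pmat q e y d A *ᵥ x = x + ((A 0 0 - 1) * h x y + A 0 1 * (d⁻¹ * h x e)) • e +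
      ((A 1 0 * h x y + (A 1 1 - 1) * (d⁻¹ * h x e)) * d) • y := by
  rw [pmat, Matrix.add_mulVec, one_mulVec, ← mulVec_mulVec, ← mulVec_mulVec, pV_mulVec, pU_mulVec, smul_smul]
  simp [Matrix.mulVec, dotProduct, Fin.sum_univ_two, Matrix.one_apply, add_assoc]

variable (P : Pair hF e y d)
include P

theorem pV_pU : pV q e y d * pU e y d = 1 := by
  refine Matrix.ext_of_mulVec_single fun i => ?_
  rw [← mulVec_mulVec, pU_mulVec, pV_mulVec, one_mulVec]
  have h0 := P.d0
  funext j
  fin_cases i <;> fin_cases j <;>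
    simp [h_add_left, h_smul_left, P.ee, P.yy, P.ye, P.ey hF, Pi.single_apply, h0]

theorem pmat_mul (A B : Matrix (Fin 2) (Fin 2) F) : pmat q e y d (A * B) = pmat q e y d A * pmat q e y d B := by
  simp only [pmat, Matrix.add_mul, Matrix.mul_add, Matrix.one_mul, Matrix.mul_one]
  rw [show pU e y d * ((A - 1) * pV q e y d) * (pU e y d * ((B - 1) * pV q e y d)) =
      pU e y d * ((A - 1) * (pV q e y d * pU e y d) * (B - 1) * pV q e y d) by
    simp only [Matrix.mul_assoc], pV_pU hF P, Matrix.mul_one, add_assoc]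
  congr 1
  rw [← Matrix.mul_add, ← Matrix.mul_add, ← Matrix.add_mul, ← Matrix.add_mul]
  congr 2
  noncomm_ring

theorem pmat_det (A : Matrix (Fin 2) (Fin 2) F) : (pmat q e y d A).det = A.det := by
  rw [pmat, det_one_add_mul_comm, Matrix.mul_assoc, pV_pU hF P, Matrix.mul_one, add_sub_cancel]

theorem pmat_isometry (A : Matrix.SpecialLinearGroup (Fin 2) (fixK hF)) (x z : Fin n → F) :
    h (pmat q e y d (A.1.map Subtype.val) *ᵥ x) (pmat q e y d (A.1.map Subtype.val) *ᵥ z) = h x z := by
  have hdet : (A.1 0 0 : F) * A.1 1 1 - A.1 0 1 * A.1 1 0 = 1 := by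
    have := congrArg Subtype.val (Dickson.det_eq A)
    simpa using this
  rw [pmat_mulVec, pmat_mulVec]
  simp only [Matrix.map_apply, h_add_left, h_add_right hF, h_smul_left, h_smul_right hF, map_add, map_mul, map_sub,
    map_one, map_inv₀, fixK_eq, P.ee, P.yy, P.ye, P.ey hF, show σ d = -d by linear_combination P.skew, h_swap hF]
  have h0 := P.d0
  field_simp
  linear_combination (d ^ 2 * (h x e * h y z + h x y * h e z)) * hdet

/-- The homomorphism from the special linear group of the plane. -/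
noncomputable def pl : Matrix.SpecialLinearGroup (Fin 2) (fixK hF) →* Cfsg.SU n F q where
  toFun A := mkSU (pmat q e y d (A.1.map Subtype.val)) (pmat_isometry hF P A) (by
    rw [pmat_det hF P]
    have := congrArg Subtype.val (Dickson.det_eq A)
    simpa [Matrix.det_fin_two] using this)
  map_one' := su_ext fun x => by
    show pmat q e y d _ *ᵥ x = _
    rw [pmat_mulVec, mat_one, one_mulVec]
    simp
  map_mul' A B := su_ext fun x => by
    show pmat q e y d _ *ᵥ x = (pmat q e y d _ * pmat q e y d _) *ᵥ x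
    rw [← pmat_mul hF P]
    congr 2

theorem pl_mulVec (A : Matrix.SpecialLinearGroup (Fin 2) (fixK hF)) (x : Fin n → F) :
    mat (pl hF P A) *ᵥ x = x + (((A.1 0 0 : F) - 1) * h x y + A.1 0 1 * (d⁻¹ * h x e)) • e +
      (((A.1 1 0 : F) * h x y + ((A.1 1 1 : F) - 1) * (d⁻¹ * h x e)) * d) • y :=
  pmat_mulVec _ x

theorem pl_up (t : fixK hF) : mat (pl hF P (up t)) = umat (q := q) e 0 ((t : F) * d⁻¹) :=
  Matrix.ext_of_mulVec_single fun i => by
    rw [pl_mulVec, umat_mulVec, h_zero_right hF]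
    simp [mul_assoc]

theorem pl_lo (t : fixK hF) : mat (pl hF P (lo t)) = umat (q := q) y 0 ((t : F) * d) :=
  Matrix.ext_of_mulVec_single fun i => by
    rw [pl_mulVec, umat_mulVec, h_zero_right hF]
    simp [mul_comm, mul_left_comm, mul_assoc]

variable {M : Subgroup (Cfsg.SU n F q)}

theorem mem_comap_lo (hlo : Um M y 0 d) : lo (1 : fixK hF) ∈ M.comap (pl hF P) :=
  hlo _ (by rw [pl_lo hF P, OneMemClass.coe_one, one_mul])

theorem skew_mul_mem {c : F} (hc : c + σ c = 0) : c * d ∈ fixK hF := by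
  show σ (c * d) = c * d
  rw [map_mul, show σ c = -c by linear_combination hc, show σ d = -d by linear_combination P.skew, neg_mul_neg]

theorem mem_comap_up {c : F} (hc : c + σ c = 0) (hU : Um M e 0 c) :
    up (⟨c * d, skew_mul_mem hF P hc⟩ : fixK hF) ∈ M.comap (pl hF P) :=
  hU _ (by rw [pl_up hF P, mul_inv_cancel_right₀ P.d0])

/-- One long root element on each side gives the central involution. -/
theorem plane_neg (h2 : (2 : F) ≠ 0) (hlo : Um M y 0 d) {c : F} (hc0 : c ≠ 0) (hc : c + σ c = 0) (hU : Um M e 0 c) :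
    (-1 : Matrix.SpecialLinearGroup (Fin 2) (fixK hF)) ∈ M.comap (pl hF P) := by
  set G := M.comap (pl hF P)
  obtain ⟨p, hp⟩ := CharP.exists (fixK hF)
  haveI : Fact p.Prime := ⟨CharP.char_is_prime (fixK hF) p⟩
  have h2K : (2 : fixK hF) ≠ 0 := fun e0 => h2 (by
    have := congrArg (fixK hF).subtype e0
    simpa only [map_ofNat, map_zero] using this)
  have hp2 : p ≠ 2 := fun e2 => h2K (by subst e2; exact CharP.cast_eq_zero (fixK hF) 2)
  set b : fixK hF := ⟨c * d, skew_mul_mem hF P hc⟩ with hb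
  have hb0 : b ≠ 0 := fun e0 => mul_ne_zero hc0 P.d0 (congrArg Subtype.val e0)
  obtain ⟨H, hH, ⟨φ⟩⟩ := Dickson.dickson p hp2 G ⟨up b, mem_comap_up hF P hc hU, lo 1, mem_comap_lo hF P hlo,
    Dickson.trace_up b, by simp [Matrix.trace_fin_two, one_add_one_eq_two], fun e0 => hb0 (by
      have := congrArg (fun g : Matrix.SpecialLinearGroup (Fin 2) (fixK hF) => g.1 0 0) e0
      simpa [Dickson.mul_entry] using this)⟩
  set g := φ.symm (-1) with hg
  have hg1 : g ≠ 1 := fun e1 => by
    have := congrArg φ e1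
    rw [hg, φ.apply_symm_apply, map_one] at this
    exact Dickson.neg_one_ne p hp2 this
  have hg2 : g * g = 1 := φ.injective (by rw [map_mul, hg, φ.apply_symm_apply, map_one]; simp)
  have hinv : (g : Matrix.SpecialLinearGroup (Fin 2) (fixK hF))⁻¹ = g := inv_eq_of_mul_eq_one_right (congrArg Subtype.val hg2)
  set a := (g : Matrix.SpecialLinearGroup (Fin 2) (fixK hF)) with ha
  have hent := Dickson.inv_entries a
  rw [hinv] at hent
  obtain ⟨e00, e01, e10, e11⟩ := hent
  have z01 : a.1 0 1 = 0 := (mul_eq_zero.1 (show (2 : fixK hF) * a.1 0 1 = 0 by linear_combination e01)).resolve_left h2K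
  have z10 : a.1 1 0 = 0 := (mul_eq_zero.1 (show (2 : fixK hF) * a.1 1 0 = 0 by linear_combination e10)).resolve_left h2K
  have hd := Dickson.det_eq a
  rw [z01, z10, ← e00] at hd
  have hsq : (a.1 0 0 - 1) * (a.1 0 0 + 1) = 0 := by linear_combination hd
  rcases mul_eq_zero.1 hsq with h1 | h1
  · refine absurd (Subtype.ext (Dickson.ext_entries ?_ ?_ ?_ ?_)) hg1 <;>
      simp [← ha, z01, z10, ← e00, sub_eq_zero.1 h1]
  · have : a = -1 := Dickson.ext_entries (by simp [eq_neg_of_add_eq_zero_left h1]) (by simp [z01]) (by simp [z10])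
      (by simp [← e00, eq_neg_of_add_eq_zero_left h1])
    exact this ▸ hH g.2

omit P in
theorem top_of_up_lo {K : Type*} [Field K] {G : Subgroup (Matrix.SpecialLinearGroup (Fin 2) K)}
    (hu : ∀ t, up t ∈ G) (hl : ∀ t, lo t ∈ G) : G = ⊤ := by
  rw [eq_top_iff]
  intro g _
  have case1 : ∀ g : Matrix.SpecialLinearGroup (Fin 2) K, g.1 1 0 ≠ 0 → g ∈ G := by
    intro g hc
    have hd := Dickson.det_eq g
    have e : g = up ((g.1 0 0 - 1) / g.1 1 0) * lo (g.1 1 0) * up ((g.1 1 1 - 1) / g.1 1 0) := by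
      refine Dickson.ext_entries ?_ ?_ ?_ ?_ <;> simp [Dickson.mul_entry] <;> field_simp <;>
        first
          | ring1
          | linear_combination (-1 : K) * hd
          | linear_combination hd
    rw [e]
    exact G.mul_mem (G.mul_mem (hu _) (hl _)) (hu _)
  by_cases hc : g.1 1 0 = 0
  · have := case1 (g * lo 1) (by
      have hd := Dickson.det_eq g
      simp [Dickson.mul_entry, hc]
      intro e1
      rw [hc, e1] at hd
      simp at hd)
    exact (Subgroup.mul_mem_cancel_right G (hl 1)).1 this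
  · exact case1 g hc

omit P in
theorem mem_of_neg {K : Type*} [Field K] {p : ℕ} [Fact p.Prime] [CharP K p]
    {G : Subgroup (Matrix.SpecialLinearGroup (Fin 2) K)} {g : Matrix.SpecialLinearGroup (Fin 2) K}
    (hg : g ^ p = 1) (hn : -g ∈ G) : g ∈ G := by
  rcases (Fact.out : p.Prime).eq_two_or_odd' with rfl | ho
  · rwa [show -g = g from Subtype.ext (by
      rw [Matrix.SpecialLinearGroup.coe_neg]; exact Matrix.ext fun i j => CharTwo.neg_eq _)] at hn
  · have hm := G.pow_mem hn p
    rw [← neg_one_mul, Commute.mul_pow (Commute.neg_one_left _), ho.neg_one_pow, hg, mul_one] at hm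
    simpa using G.mul_mem hm hn

/-- Two long root elements in general position with one on the other side give the whole plane group. -/
theorem plane_top_gen (hlo : Um M y 0 d) {c1 : F} (hc1 : c1 + σ c1 = 0) (hU1 : Um M e 0 c1) (h1 : c1 ≠ 0)
    {c2 : F} (hc2 : c2 + σ c2 = 0) (hU2 : Um M e 0 c2)
    (hgen2 : ∀ S : Subfield (fixK hF), (∀ r : fixK hF, (r : F) = c1 * d → r ∈ S) →
      (∀ r : fixK hF, (r : F) = c2 * d → r ∈ S) → S = ⊤)
    (hprime : (∀ r : fixK hF, (r : F) = c2 / c1 → r ∈ (⊥ : Subfield (fixK hF))) → (⊥ : Subfield (fixK hF)) = ⊤) :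
    M.comap (pl hF P) = ⊤ := by
  classical
  set G := M.comap (pl hF P)
  let B : AddSubgroup (fixK hF) :=
    { carrier := {t | up t ∈ G}
      zero_mem' := by simp [Dickson.up_zero, G.one_mem]
      add_mem' := fun {a b} ha hb => by
        show up (a + b) ∈ G
        rw [← Dickson.up_mul]; exact G.mul_mem ha hb
      neg_mem' := fun {a} ha => by
        show up (-a) ∈ G
        rw [← Dickson.up_inv]; exact G.inv_mem ha }
  set t1 : fixK hF := ⟨c1 * d, skew_mul_mem hF P hc1⟩ with ht1
  set t2 : fixK hF := ⟨c2 * d, skew_mul_mem hF P hc2⟩ with ht2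
  have hB1 : t1 ∈ B := mem_comap_up hF P hc1 hU1
  have hB2 : t2 ∈ B := mem_comap_up hF P hc2 hU2
  have h10 : t1 ≠ 0 := fun e0 => mul_ne_zero h1 P.d0 (congrArg Subtype.val e0)
  have hS : ∀ S : Subfield (fixK hF), (∀ b ∈ B, b ∈ S) → S = ⊤ := fun S hS =>
    hgen2 S (fun r hr => (show r = t1 from Subtype.ext hr) ▸ hS _ hB1)
      (fun r hr => (show r = t2 from Subtype.ext hr) ▸ hS _ hB2)
  haveI : Fintype (fixK hF) := Fintype.ofFinite _
  obtain ⟨p, hpc⟩ := CharP.exists (fixK hF)
  haveI := hpc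
  haveI hpf : Fact p.Prime := ⟨CharP.char_is_prime (fixK hF) p⟩
  by_cases hbig : p ^ 2 ≤ Nat.card B
  · have hgen' := MaxSub.Plane.gen_top (G := G) (B := B) (mem_comap_lo hF P hlo) (fun b hb => hb)
      (fun p' _ hp' => (CharP.eq (fixK hF) hp' hpc) ▸ hbig) hS
    refine top_of_up_lo (fun t => ?_) (fun t => ?_)
    · exact (hgen' (up t)).elim id (mem_of_neg (p := p) (by rw [Dickson.up_pow, CharP.cast_eq_zero, zero_mul, Dickson.up_zero]))
    · exact (hgen' (lo t)).elim id (mem_of_neg (p := p) (by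
        rw [Dickson.lo_pow, CharP.cast_eq_zero, zero_mul]; exact Subtype.ext (by simp [Matrix.one_fin_two])))
  · push Not at hbig
    obtain ⟨m, hm, hK⟩ := FiniteField.card (fixK hF) p
    obtain ⟨i, -, hi⟩ := (Nat.dvd_prime_pow hm).1
      (hK ▸ Nat.card_eq_fintype_card (α := fixK hF) ▸ AddSubgroup.card_addSubgroup_dvd_card B :
        Nat.card B ∣ p ^ (m : ℕ))
    have hi1 : i ≤ 1 := by
      by_contra hc
      rw [hi] at hbig
      exact absurd (Nat.pow_le_pow_right hm.pos (show 2 ≤ i by omega)) (by omega)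
    have hz : AddSubgroup.zmultiples t1 = B := by
      refine AddSubgroup.eq_of_le_of_card_ge ((AddSubgroup.zmultiples_le).2 hB1) ?_
      rw [Nat.card_zmultiples, (addOrderOf_eq_prime (by rw [nsmul_eq_mul, CharP.cast_eq_zero, zero_mul]) h10 :
        addOrderOf t1 = p), hi]
      exact le_trans (Nat.pow_le_pow_right hm.pos hi1) (by rw [pow_one])
    have hbot : (⊥ : Subfield (fixK hF)) = ⊤ := hprime fun r hr => by
      obtain ⟨z, hz⟩ := AddSubgroup.mem_zmultiples_iff.1 (hz.symm ▸ hB2 : t2 ∈ AddSubgroup.zmultiples t1)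
      have : r = (z : fixK hF) := by
        refine Subtype.ext ?_
        have e0 : (z : F) * (c1 * d) = c2 * d := by
          rw [← zsmul_eq_mul]; exact congrArg Subtype.val hz
        rw [hr, div_eq_iff h1]
        push_cast
        exact mul_right_cancel₀ P.d0 (by linear_combination -e0)
      rw [this]
      exact intCast_mem _ z
    have hall : ∀ r : fixK hF, ∃ k : ℕ, (k : fixK hF) = r := fun r => by
      have hr : r ∈ (⊥ : Subfield (fixK hF)) := hbot ▸ Subfield.mem_top r
      rw [← ZMod.fieldRange_castHom_eq_bot p] at hr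
      obtain ⟨x, rfl⟩ := hr
      exact ⟨x.val, by rw [← map_natCast (ZMod.castHom (dvd_refl p) (fixK hF)), ZMod.natCast_zmod_val]⟩
    refine top_of_up_lo (fun t => ?_) (fun t => ?_)
    · obtain ⟨k, hk⟩ := hall (t / t1)
      have := G.pow_mem (show up t1 ∈ G from hB1) k
      rwa [Dickson.up_pow, hk, div_mul_cancel₀ _ h10] at this
    · obtain ⟨k, hk⟩ := hall t
      have := G.pow_mem (mem_comap_lo hF P hlo) k
      rwa [Dickson.lo_pow, hk, mul_one] at this

/-- The version with a generating ratio. -/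
theorem plane_top (hlo : Um M y 0 d) {c1 : F} (hc1 : c1 + σ c1 = 0) (hU1 : Um M e 0 c1) (h1 : c1 ≠ 0)
    {c2 : F} (hc2 : c2 + σ c2 = 0) (hU2 : Um M e 0 c2)
    (hgen : ∀ S : Subfield (fixK hF), (∀ r : fixK hF, (r : F) = c2 / c1 → r ∈ S) → S = ⊤) :
    M.comap (pl hF P) = ⊤ :=
  plane_top_gen hF P hlo hc1 hU1 h1 hc2 hU2 (fun S a b => hgen S fun r hr => by
    have : r = (⟨c2 * d, skew_mul_mem hF P hc2⟩ : fixK hF) / ⟨c1 * d, skew_mul_mem hF P hc1⟩ := Subtype.ext (by
      push_cast
      rw [hr, mul_div_mul_right _ _ P.d0])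
    rw [this]
    exact S.div_mem (b _ rfl) (a _ rfl)) (hgen ⊥)

theorem pl_sc {t : fixK hF} {A : Matrix.SpecialLinearGroup (Fin 2) (fixK hF)}
    (hA : A.1 0 0 = t ∧ A.1 0 1 = 0 ∧ A.1 1 0 = 0 ∧ A.1 1 1 = t⁻¹) (x : Fin n → F) :
    mat (pl hF P A) *ᵥ x = x + (((t : F) - 1) * h x y) • e + (((t : F)⁻¹ - 1) * h x e) • y := by
  obtain ⟨a, b, c, e'⟩ := hA
  rw [pl_mulVec, a, b, c, e']
  have h0 := P.d0
  congr 2
  · congr 1
    simp
  · push_cast
    field_simp
    ring

end CfsgLib.UnitReg
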