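import Cfsg.Agent.Lib.UnitReg.Model

/-!
# Two conjugates in dimension three: the common part
-/

set_option autoImplicit false
set_option linter.unusedSectionVars false

namespace CfsgLib.UnitReg

open Matrix CfsgLib.UnitaryTransvection CfsgLib.UnitarySimple CfsgLib.TwoGenCl.Unit
open CfsgLib.Dickson (up lo)

variable {F : Type*} [Field F] [Fintype F] {q n : ℕ} (hF : Fintype.card F = q ^ 2)

local notation "h" => Cfsg.hermForm n F q
local notation "σ" => frob hF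

/-- Two opposite regular unipotent elements, conjugate to each other, in the frame of dimension three. -/
structure Opp (Fr : Frame F q n 1 1) (s κ r : F) where
  trs : s + σ s = -1
  u : Cfsg.SU n F q
  v : Cfsg.SU n F q
  θ : Cfsg.SU n F q
  hu : mat u = umat (q := q) (Fr.e 0) (Fr.u 0) s
  hv : mat v = umat (q := q) (Fr.f 0) (κ • Fr.u 0) r
  conj : v = θ * u * θ⁻¹

variable {Fr : Frame F q n 1 1}

theorem exists_opp {d s : F} (hd0 : d ≠ 0) (hd : d + σ d = 0) (w : Fˣ) (hs : s + σ s = -1) :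
    Nonempty (Opp hF Fr s (σ d * σ (w : F) / ((w : F) * (w : F))) (d * σ d / ((w : F) * σ (w : F)) * s)) := by
  have okψ : Frame.Ok (r := 1) hF (dg 1 (fun _ => w), tw hF w) := by
    refine ⟨tw_norm hF w, ?_⟩
    show _ * (tw hF w : F) ^ 1 = _
    rw [dg_det, Fin.prod_univ_one, pow_one, tw_val, mul_div_cancel₀ _ w.ne_zero]
  obtain ⟨u, hu⟩ := exists_um hF (Fr.ee 0 0) (Fr.ue 0 0) (s := s) (by rw [Fr.uu]; linear_combination hs)
  set L := Fr.levi hF _ okψ with hL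
  set θ := L * Fr.flipAt hF 0 hd with hθ
  have he : mat θ *ᵥ Fr.e 0 = (d / σ (w : F)) • Fr.f 0 := by
    rw [hθ, mat_mul, ← mulVec_mulVec, Fr.flipAt_e hF 0 hd0 hd, mulVec_smul, hL, Fr.levi_dg_f, smul_smul,
      div_eq_mul_inv]
  have hu0 : mat θ *ᵥ Fr.u 0 = (σ (w : F) / (w : F)) • Fr.u 0 := by
    rw [hθ, mat_mul, ← mulVec_mulVec, Fr.flipAt_fix hF 0 hd (Fr.ue _ _) (Fr.uf _ _), hL, Fr.levi_u, tw_val]
  refine ⟨⟨hs, u, θ * u * θ⁻¹, θ, hu, ?_, rfl⟩⟩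
  rw [conj_um hF θ u hu, he, hu0, umat_smul hF, smul_smul, map_div₀, frob_frob hF]
  congr 1
  · congr 1
    field_simp
  · field_simp

variable {s κ r : F} (O : Opp hF Fr s κ r)

namespace Opp
include O

theorem uinv : mat O.u⁻¹ = umat (q := q) (Fr.e 0) (-Fr.u 0) (σ s) :=
  um_inv hF (Fr.ee 0 0) (Fr.ue 0 0) (by rw [Fr.uu]; linear_combination O.trs) O.hu

theorem hr : h (κ • Fr.u 0) (κ • Fr.u 0) + r + σ r = 0 := by
  have h1 := su_h O.v (Fr.e 0) (Fr.e 0)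
  simp only [O.hv, umat_mulVec, h_add_left, h_sub_left, h_add_right hF, h_sub_right hF, h_smul_left, h_smul_right hF,
    Fr.ef, Fr.fe, Fr.ee, Fr.ff, Fr.eu, Fr.fu, Fr.ue, Fr.uf, Fr.uu, if_true, map_mul, map_one, map_zero, mul_zero, zero_mul] at h1 ⊢
  linear_combination h1

theorem vinv : mat O.v⁻¹ = umat (q := q) (Fr.f 0) (-(κ • Fr.u 0)) (σ r) :=
  um_inv hF (Fr.ff 0 0) (by rw [h_smul_left, Fr.uf, mul_zero]) (O.hr hF) O.hv

theorem uA (A B C : F) : mat O.u *ᵥ (A • Fr.e 0 + B • Fr.u 0 + C • Fr.f 0) =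
    (A - B + s * C) • Fr.e 0 + (B + C) • Fr.u 0 + C • Fr.f 0 := by
  simp only [O.hu, umat_mulVec, h_add_left, h_smul_left, Fr.ee, Fr.ef, Fr.fe, Fr.ff, Fr.eu, Fr.fu, Fr.ue, Fr.uf,
    Fr.uu, if_true]
  module

theorem uiA (A B C : F) : mat O.u⁻¹ *ᵥ (A • Fr.e 0 + B • Fr.u 0 + C • Fr.f 0) =
    (A + B + σ s * C) • Fr.e 0 + (B - C) • Fr.u 0 + C • Fr.f 0 := by
  simp only [O.uinv hF, umat_mulVec, h_add_left, h_smul_left, h_neg_right' hF, Fr.ee, Fr.ef, Fr.fe, Fr.ff, Fr.eu,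
    Fr.fu, Fr.ue, Fr.uf, Fr.uu, if_true]
  module

theorem vA (A B C : F) : mat O.v *ᵥ (A • Fr.e 0 + B • Fr.u 0 + C • Fr.f 0) =
    A • Fr.e 0 + (B + κ * A) • Fr.u 0 + (C - σ κ * B + r * A) • Fr.f 0 := by
  simp only [O.hv, umat_mulVec, h_add_left, h_smul_left, h_smul_right hF, Fr.ee, Fr.ef, Fr.fe, Fr.ff, Fr.eu, Fr.fu,
    Fr.ue, Fr.uf, Fr.uu, if_true]
  module

theorem viA (A B C : F) : mat O.v⁻¹ *ᵥ (A • Fr.e 0 + B • Fr.u 0 + C • Fr.f 0) =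
    A • Fr.e 0 + (B - κ * A) • Fr.u 0 + (C + σ κ * B + σ r * A) • Fr.f 0 := by
  simp only [O.vinv hF, umat_mulVec, h_add_left, h_smul_left, h_smul_right hF, h_neg_right' hF, Fr.ee, Fr.ef, Fr.fe,
    Fr.ff, Fr.eu, Fr.fu, Fr.ue, Fr.uf, Fr.uu, if_true]
  module

theorem expand3 (x : Fin n → F) :
    x = h x (Fr.f 0) • Fr.e 0 + h x (Fr.u 0) • Fr.u 0 + h x (Fr.e 0) • Fr.f 0 := by
  conv_lhs => rw [Fr.expand x]
  simp [Fintype.sum_sum_type, opp, Frame.e, Frame.f, Frame.u]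
  abel

theorem regular : (mat O.u - 1) ^ 3 = 0 ∧ (mat O.u - 1) ^ 2 ≠ 0 := by
  have k : ∀ A B C : F, (mat O.u - 1) *ᵥ (A • Fr.e 0 + B • Fr.u 0 + C • Fr.f 0) =
      (-B + s * C) • Fr.e 0 + C • Fr.u 0 + (0 : F) • Fr.f 0 := fun A B C => by
    rw [Matrix.sub_mulVec, one_mulVec, O.uA hF]; module
  refine ⟨Matrix.ext_of_mulVec_single fun i => ?_, fun h0 => ?_⟩
  · rw [O.expand3 hF (Pi.single i 1), pow_three, ← mulVec_mulVec, ← mulVec_mulVec, k, k, k, Matrix.zero_mulVec]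
    module
  · have h1 := congrArg (fun M => M *ᵥ ((0 : F) • Fr.e 0 + (0 : F) • Fr.u 0 + (1 : F) • Fr.f 0)) h0
    simp only [pow_two, ← mulVec_mulVec, k, Matrix.zero_mulVec] at h1
    have h2 := congrArg (fun x => h x (Fr.f 0)) h1
    simp [h_add_left, h_smul_left, h_zero_left, h_neg_right', Fr.ef, Fr.uf, Fr.ff] at h2 ⊢
    rw [← neg_one_smul F (Fr.e 0), h_smul_left, Fr.ef, if_pos rfl, mul_one, neg_eq_zero] at h2
    exact one_ne_zero h2

theorem vε : h (mat O.v *ᵥ Fr.e 0) (Fr.e 0) = r := by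
  rw [show Fr.e 0 = (1 : F) • Fr.e 0 + (0 : F) • Fr.u 0 + (0 : F) • Fr.f 0 by module, O.vA hF]
  simp [h_add_left, h_smul_left, h_add_right hF, h_smul_right hF, h_zero_right hF, Fr.ee, Fr.ue, Fr.fe]

variable {M : Subgroup (Cfsg.SU n F q)}

/-- An element fixing the first vector gives a component. -/
theorem adm_of_word {g : Cfsg.SU n F q} (hg : g ∈ M) (hge : mat g *ᵥ Fr.e 0 = Fr.e 0) {A B x : F}
    (hgP : mat g *ᵥ Fr.u 0 = Fr.u 0 + A • Fr.e 0) (hgf : mat g *ᵥ Fr.f 0 = Fr.f 0 + B • Fr.u 0 + x • Fr.e 0) :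
    Adm hF M (Fr.e 0) (B • Fr.u 0 + x • Fr.e 0) := by
  obtain ⟨d, hd0, hd⟩ := exists_skew hF
  have P : Pair hF (Fr.e 0) (Fr.f 0) d := ⟨Fr.ee 0 0, Fr.ff 0 0, by rw [Fr.fe, if_pos rfl], hd0, hd⟩
  have := adm_of_fix hF P hg hge fun y hy => ⟨h y (Fr.u 0) * A, by
    have e := O.expand3 hF y
    rw [hy, zero_smul, add_zero] at e
    generalize h y (Fr.f 0) = a at e
    generalize h y (Fr.u 0) = b at e ⊢
    rw [e, mulVec_add, mulVec_smul, mulVec_smul, hge, hgP]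
    module⟩
  rwa [hgf, add_assoc, add_sub_cancel_left] at this

/-- Two components and generating long root elements give everything. -/
theorem finish (hn3 : n = 3) (hq : q ≠ 2) (hu : O.u ∈ M) (hv : O.v ∈ M) (hr0 : r ≠ 0) {lam x : F}
    (hA : Adm hF M (Fr.e 0) (lam • Fr.u 0 + x • Fr.e 0)) (hl : σ lam ≠ lam)
    {c0 : F} (hc00 : c0 ≠ 0) (hc0 : c0 + σ c0 = 0) (hU0 : Um M (Fr.e 0) 0 c0) {c1 : F} (hc1 : c1 + σ c1 = 0)
    (hU1 : Um M (Fr.e 0) 0 c1) {c2 : F} (h1 : c1 ≠ 0) (hc2 : c2 + σ c2 = 0) (hU2 : Um M (Fr.e 0) 0 c2)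
    (hgen2 : ∀ S : Subfield (fixK hF), (∀ z : fixK hF, (z : F) = c1 * (r * σ r * c0) → z ∈ S) →
      (∀ z : fixK hF, (z : F) = c2 * (r * σ r * c0) → z ∈ S) → S = ⊤)
    (hprime : (∀ z : fixK hF, (z : F) = c2 / c1 → z ∈ (⊥ : Subfield (fixK hF))) →
      (⊥ : Subfield (fixK hF)) = ⊤) : M = ⊤ := by
  have hζ : h (mat O.v *ᵥ Fr.e 0) (Fr.e 0) ≠ 0 := by rw [O.vε hF]; exact hr0
  have P := pair_of hF (Fr.ee 0 0) hζ hc00 hc0
  have htop : M.comap (pl hF P) = ⊤ := plane_top_gen hF P (um_move_smul hF hU0 hv hζ) hc1 hU1 h1 hc2 hU2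
    (fun S a b => hgen2 S (fun z hz => a z (by rw [hz, O.vε hF])) (fun z hz => b z (by rw [hz, O.vε hF]))) hprime
  have hL : Lg hF M (Fr.e 0) := fun c hc k hk => by
    have hk' : k = pl hF P (up ⟨c * _, skew_mul_mem hF P hc⟩) := su_ext fun y => by
      rw [hk, pl_up hF P]
      congr 2
      exact (mul_inv_cancel_right₀ P.d0 c).symm
    rw [hk']
    exact (htop ▸ Subgroup.mem_top _ : up _ ∈ M.comap (pl hF P))
  have hAP : Adm hF M (Fr.e 0) (Fr.u 0) :=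
    ⟨Fr.ue 0 0, s, by rw [Fr.uu]; linear_combination O.trs, um_of_mem O.hu hu⟩
  have hAl : Adm hF M (Fr.e 0) (lam • Fr.u 0) := by
    have := (admGroup hF (M := M) (Fr.ee 0 0)).sub_mem hA (Adm.self hF (Fr.ee 0 0) hL x)
    rwa [add_sub_cancel_right] at this
  have hreal : ∀ t a, σ t = t → Adm hF M (Fr.e 0) a → Adm hF M (Fr.e 0) (t • a) := fun t a ht ha => by
    rcases eq_or_ne t 0 with rfl | h0
    · rw [zero_smul]; exact Adm.zero hF
    · exact adm_smul_fixed hF P hL h0 ht (hasSc_of_top hF P htop h0 ht) ha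
  refine eq_top_of_rad hF (by omega) (fun e => hq e.2) (Fr.ee 0 0) hv hζ (rad_of_adm hF (Fr.ee 0 0) hL fun a ha => ?_)
  have e := O.expand3 hF a
  rw [ha, zero_smul, add_zero] at e
  rw [e]
  obtain ⟨t0, t1, h0, h1, hy⟩ := span_fixed hF hl (h a (Fr.u 0))
  have := (admGroup hF (M := M) (Fr.ee 0 0)).add_mem (Adm.self hF (Fr.ee 0 0) hL (h a (Fr.f 0)))
    ((admGroup hF (M := M) (Fr.ee 0 0)).add_mem (hreal t0 _ h0 hAP) (hreal t1 _ h1 hAl))
  rw [hy, add_smul, mul_smul]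
  exact this

/-- The commutator of the two components. -/
theorem seed_comm (hu : O.u ∈ M) {lam x : F} (hA : Adm hF M (Fr.e 0) (lam • Fr.u 0 + x • Fr.e 0)) :
    Um M (Fr.e 0) 0 (σ lam - lam) := by
  obtain ⟨hav, t, ht, hU⟩ := hA
  have := comm_same hF (Fr.ee 0 0) (Fr.ue 0 0) hav (s := s) (t := t) (by rw [Fr.uu]; linear_combination O.trs) ht
    (um_of_mem O.hu hu) hU
  intro g hg
  refine this g ?_
  rw [hg]
  simp only [h_add_left, h_add_right hF, h_smul_left, h_smul_right hF, Fr.uu, Fr.ue, Fr.eu]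
  congr 1
  ring

end Opp

end CfsgLib.UnitReg
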