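import Cfsg.Agent.Lib.UnitReg.Two

/-!
# Two conjugates in dimension three: the generic construction
-/

set_option autoImplicit false
set_option linter.unusedSectionVars false
set_option maxHeartbeats 800000

namespace CfsgLib.UnitReg

open Matrix CfsgLib.UnitaryTransvection CfsgLib.UnitarySimple CfsgLib.TwoGenCl.Unit

variable {F : Type*} [Field F] [Fintype F] {q n : ℕ} (hF : Fintype.card F = q ^ 2)

local notation "h" => Cfsg.hermForm n F q
local notation "σ" => frob hF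

include hF in
theorem card_fixK_ge : q ≤ Nat.card (fixK hF) := by
  obtain ⟨ω, hω, -⟩ := exists_gen hF
  have hq := (UnitaryBasic.frob_exists hF).1
  have hρ : σ (ω : F) ≠ (ω : F) := fun e => by
    rw [frob_apply] at e
    have h2 : ω ^ (q - 1) = 1 := Units.ext (by
      rw [Units.val_pow_eq_pow_val, Units.val_one]
      refine mul_right_cancel₀ ω.ne_zero ?_
      rw [← pow_succ, one_mul, show q - 1 + 1 = q by omega, e])
    have h3 := Nat.le_of_dvd (by omega) (hω ▸ orderOf_dvd_of_pow_eq_one h2)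
    have h4 : 2 * q ≤ q ^ 2 := by rw [pow_two]; exact Nat.mul_le_mul_right q hq
    omega
  have hs : Function.Surjective fun z : fixK hF × fixK hF => (z.1 : F) + z.2 * (ω : F) := fun y => by
    obtain ⟨a, b, ha, hb, e⟩ := span_fixed hF hρ y
    exact ⟨(⟨a, ha⟩, ⟨b, hb⟩), e.symm⟩
  have := Nat.card_le_card_of_surjective _ hs
  rw [Nat.card_eq_fintype_card, hF, Nat.card_prod, pow_two] at this
  exact Nat.mul_self_le_mul_self_iff.1 this

include hF in
/-- The trace of a norm-one element of large order generates the fixed field. -/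
theorem trace_gen {ξ : F} (hξ : ξ * σ ξ = 1)
    (hord : ∀ k : ℕ, 0 < k → 3 * k < q + 1 → ξ ^ k ≠ 1) (h28 : q ≠ 8) (h2 : q ≠ 2)
    (S : Subfield (fixK hF)) (hS : ∀ z : fixK hF, (z : F) = ξ + σ ξ → z ∈ S) : S = ⊤ := by
  classical
  by_contra hne
  obtain ⟨x, hx⟩ : ∃ x, x ∉ S := by
    by_contra hc
    push Not at hc
    exact hne (eq_top_iff.2 fun x _ => hc x)
  have hinj : Function.Injective fun z : S × S => (z.1 : fixK hF) + z.2 * x := by
    rintro ⟨a, b⟩ ⟨a', b'⟩ e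
    simp only at e
    rcases eq_or_ne b b' with rfl | hb
    · rw [Subtype.ext (add_right_cancel e)]
    · refine absurd ?_ hx
      have hb' : ((b : fixK hF) - b') ≠ 0 := sub_ne_zero.2 fun e0 => hb (Subtype.ext e0)
      rw [show x = ((a' : fixK hF) - a) / ((b : fixK hF) - b') by field_simp; linear_combination e]
      exact S.div_mem (S.sub_mem a'.2 a.2) (S.sub_mem b.2 b'.2)
  have hle := Nat.card_le_card_of_injective _ hinj
  rw [Nat.card_prod] at hle
  obtain ⟨p, f, hp, hf, hc, hqp⟩ := exists_char_pow hF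
  haveI := hc
  haveI : Fact p.Prime := ⟨hp⟩
  haveI : CharP S p := ((RingHom.charP_iff (((fixK hF).subtype).comp S.subtype) (Subtype.val_injective.comp Subtype.val_injective) p).2 hc)
  haveI : Fintype S := Fintype.ofFinite _
  obtain ⟨m, hm, hQ⟩ := FiniteField.card S p
  set τ : fixK hF := ⟨ξ + σ ξ, show σ (ξ + σ ξ) = ξ + σ ξ by rw [map_add, frob_frob hF, add_comm]⟩
  have hτ : τ ∈ S := hS τ rfl
  have hpow : (ξ + σ ξ) ^ (p ^ (m : ℕ)) = ξ + σ ξ := by
    have := FiniteField.pow_card (⟨τ, hτ⟩ : S)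
    rw [hQ] at this
    exact congrArg (fun z : S => ((z : fixK hF) : F)) this
  rw [add_pow_char_pow] at hpow
  set Q := p ^ (m : ℕ) with hQd
  have hQ1 : 2 ≤ Q := le_trans hp.two_le (Nat.le_self_pow (by have := m.pos; omega) p)
  have hξ0 : ξ ≠ 0 := fun e => by rw [e, zero_mul] at hξ; exact zero_ne_one hξ
  have hinv : σ ξ = ξ⁻¹ := eq_inv_of_mul_eq_one_right hξ
  have hcase : (ξ ^ Q - ξ) * (ξ ^ Q * ξ - 1) = 0 := by
    rw [hinv, inv_pow] at hpow
    field_simp at hpow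
    linear_combination hpow
  have hbound : q + 1 ≤ 3 * (Q + 1) := by
    by_contra hc
    rcases mul_eq_zero.1 hcase with e | e
    · refine hord (Q - 1) (by omega) (by omega) (mul_right_cancel₀ hξ0 ?_)
      rw [← pow_succ, one_mul, show Q - 1 + 1 = Q by omega, ← sub_eq_zero, e]
    · refine hord (Q + 1) (by omega) (by omega) ?_
      rw [pow_succ, ← sub_eq_zero, e]
  have hSQ : Nat.card S = Q := by rw [Nat.card_eq_fintype_card, hQ]
  haveI : CharP (fixK hF) p := (RingHom.charP_iff ((fixK hF).subtype) Subtype.val_injective p).2 hc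
  haveI : Fintype (fixK hF) := Fintype.ofFinite _
  obtain ⟨e, -, hK⟩ := FiniteField.card (fixK hF) p
  have hKge := card_fixK_ge hF
  have hKle : Nat.card (fixK hF) ≤ q := by
    classical
    have hsub : (Finset.univ.filter fun z : F => σ z = z) ⊆ (Polynomial.X ^ q - Polynomial.X : Polynomial F).roots.toFinset := by
      intro z hz
      rw [Finset.mem_filter, frob_apply] at hz
      rw [Multiset.mem_toFinset, Polynomial.mem_roots (FiniteField.X_pow_card_sub_X_ne_zero F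
        (UnitaryBasic.frob_exists hF).1)]
      simp [hz.2]
    have h1 := (Finset.card_le_card hsub).trans (Multiset.toFinset_card_le _)
    have h2 := h1.trans (Polynomial.card_roots' _)
    rw [FiniteField.X_pow_card_sub_X_natDegree_eq F (UnitaryBasic.frob_exists hF).1] at h2
    rw [Nat.card_eq_fintype_card, Fintype.card_subtype]
    exact h2
  rw [hSQ] at hle
  have hQq : Q * Q ≤ q := hle.trans hKle
  have hQ3 : Q ≤ 3 := by
    by_contra hc
    have : 4 * Q ≤ Q * Q := Nat.mul_le_mul_right Q (by omega)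
    omega
  have hqle : q ≤ 11 := by omega
  have hp3 : p ≤ 3 := le_trans (Nat.le_self_pow (by have := m.pos; omega) p) hQ3
  have hf3 : f ≤ 3 := by
    by_contra hc
    have := (Nat.pow_le_pow_left hp.two_le f).trans' (Nat.pow_le_pow_right (by norm_num) (by omega : 4 ≤ f))
    omega
  have hm1 : p = Q := by
    have h1 := m.pos
    rcases Nat.eq_or_lt_of_le (show 1 ≤ (m : ℕ) by omega) with hm' | hm'
    · rw [hQd, ← hm', pow_one]
    · have := (Nat.pow_le_pow_left hp.two_le (m : ℕ)).trans' (Nat.pow_le_pow_right (by norm_num) (by omega : 2 ≤ (m : ℕ)))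
      omega
  -- the remaining fields
  obtain rfl | rfl : p = 2 ∨ p = 3 := by have := hp.two_le; omega
  · interval_cases f
    · omega
    · -- four elements
      subst hqp
      rcases mul_eq_zero.1 hcase with e' | e'
      · refine hord 1 one_pos (by omega) (mul_right_cancel₀ hξ0 ?_)
        rw [← hm1] at e'
        rw [pow_one, one_mul, ← sub_eq_zero]
        linear_combination e'
      · have h5 : ξ ^ 5 = 1 := by
          have := hξ
          rw [frob_apply] at this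
          linear_combination this
        have h3 : ξ ^ 3 = 1 := by
          rw [← hm1] at e'
          linear_combination e'
        refine hord 1 one_pos (by omega) ?_
        linear_combination (ξ ^ 3 + 1) * h3 - ξ * h5
    · omega
  · interval_cases f
    · rw [← hm1] at hQq; omega
    · subst hqp
      have h10 : ξ ^ 10 = 1 := by
        have := hξ
        rw [frob_apply] at this
        linear_combination this
      rw [← hm1] at hcase
      rcases mul_eq_zero.1 hcase with e' | e'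
      · refine hord 2 two_pos (by omega) (mul_right_cancel₀ hξ0 ?_)
        linear_combination e'
      · have h4 : ξ ^ 4 = 1 := by linear_combination e'
        refine hord 2 two_pos (by omega) ?_
        linear_combination h10 - (ξ ^ 6 + ξ ^ 2) * h4
    · omega

variable {Fr : Frame F q n 1 1}

/-- The generic pair generates. -/
theorem two_generic (hn3 : n = 3) (hq2 : q ≠ 2) {w : Fˣ} (hw3 : σ (w : F) ^ 3 ≠ (w : F) ^ 3)
    (hξ4 : (σ (w : F) ^ 3 / (w : F) ^ 3) ^ 4 ≠ 1)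
    (hgen : ∀ S : Subfield (fixK hF),
      (∀ z : fixK hF, (z : F) = σ (w : F) ^ 3 / (w : F) ^ 3 + (w : F) ^ 3 / σ (w : F) ^ 3 → z ∈ S) → S = ⊤)
    (hG : (2 : F) ≠ 0 → (∀ z : fixK hF, (z : F) = (σ (w : F) ^ 3 / (w : F) ^ 3 + (w : F) ^ 3 / σ (w : F) ^ 3) *
        (σ (w : F) ^ 3 / (w : F) ^ 3 + (w : F) ^ 3 / σ (w : F) ^ 3 - 2) → z ∈ (⊥ : Subfield (fixK hF))) →
      (⊥ : Subfield (fixK hF)) = ⊤) :
    ∃ u g : Cfsg.SU n F q, ((mat u - 1) ^ 3 = 0 ∧ (mat u - 1) ^ 2 ≠ 0) ∧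
      Subgroup.closure ({u, g * u * g⁻¹} : Set (Cfsg.SU n F q)) = ⊤ := by
  obtain ⟨Fr⟩ := exists_frame hF (n := n) 1 1 (by omega)
  have hw0 := w.ne_zero
  have hsw0 : σ (w : F) ≠ 0 := by simp
  set d := (σ (w : F) ^ 3 - (w : F) ^ 3) / ((w : F) * σ (w : F)) with hdd
  have hd0 : d ≠ 0 := div_ne_zero (sub_ne_zero.2 hw3) (mul_ne_zero hw0 hsw0)
  have hσd : σ d = -d := by
    rw [hdd, map_div₀, map_sub, map_pow, map_pow, map_mul, frob_frob hF, mul_comm (σ (w : F)), ← neg_div, neg_sub]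
  have hd : d + σ d = 0 := by rw [hσd, add_neg_cancel]
  set s := -(σ (w : F) ^ 2) / (d * (w : F)) with hsd
  have eσs : σ s = (w : F) ^ 2 / (d * σ (w : F)) := by
    rw [hsd, map_div₀, map_neg, map_pow, map_mul, frob_frob hF, hσd]
    field_simp
  have htr : s + σ s = -1 := by
    rw [eσs, hsd, hdd]
    have := sub_ne_zero.2 hw3
    field_simp
    ring
  have hs0 : s ≠ 0 := div_ne_zero (neg_ne_zero.2 (pow_ne_zero 2 hsw0)) (mul_ne_zero hd0 hw0)
  have hσs0 : σ s ≠ 0 := by simpa using hs0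
  obtain ⟨O⟩ := exists_opp hF (Fr := Fr) hd0 hd w htr
  set κ := σ d * σ (w : F) / ((w : F) * (w : F)) with hκd
  set r := d * σ d / ((w : F) * σ (w : F)) * s with hrd
  have eκ : κ = -(σ s)⁻¹ := by
    rw [hκd, eσs, hσd, inv_div]; field_simp
  have er : r = (σ s)⁻¹ := by
    rw [hrd, eσs, hσd, hsd, inv_div]; field_simp
  have eσκ : σ κ = -s⁻¹ := by rw [eκ, map_neg, map_inv₀, frob_frob hF]
  have eσr : σ r = s⁻¹ := by rw [er, map_inv₀, frob_frob hF]
  have hr0 : r ≠ 0 := by rw [er]; exact inv_ne_zero hσs0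
  refine ⟨O.u, O.θ, O.regular hF, ?_⟩
  rw [← O.conj]
  set M := Subgroup.closure ({O.u, O.v} : Set (Cfsg.SU n F q))
  have hu : O.u ∈ M := Subgroup.subset_closure (by simp)
  have hv : O.v ∈ M := Subgroup.subset_closure (by simp)
  -- the second component
  set μ := s / σ s with hμd
  set W := O.u * O.v with hW
  set g := O.v⁻¹ * O.u⁻¹ * O.v * (O.u * O.v) with hg
  have hgM : g ∈ M := mul_mem (mul_mem (mul_mem (inv_mem hv) (inv_mem hu)) hv) (mul_mem hu hv)
  have hs1 : σ s = -1 - s := by linear_combination htr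
  have hs2 : -1 - s ≠ 0 := hs1 ▸ hσs0
  have act : ∀ A B C : F, mat g *ᵥ (A • Fr.e 0 + B • Fr.u 0 + C • Fr.f 0) = mat O.v⁻¹ *ᵥ (mat O.u⁻¹ *ᵥ
      (mat O.v *ᵥ (mat O.u *ᵥ (mat O.v *ᵥ (A • Fr.e 0 + B • Fr.u 0 + C • Fr.f 0))))) := fun A B C => by
    simp only [hg, mat_mul, ← mulVec_mulVec]
  have hge : mat g *ᵥ Fr.e 0 = Fr.e 0 := by
    conv_lhs => rw [show Fr.e 0 = (1 : F) • Fr.e 0 + (0 : F) • Fr.u 0 + (0 : F) • Fr.f 0 by module, act, O.vA hF,
      O.uA hF, O.vA hF, O.uiA hF, O.viA hF]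
    conv_rhs => rw [show Fr.e 0 = (1 : F) • Fr.e 0 + (0 : F) • Fr.u 0 + (0 : F) • Fr.f 0 by module]
    rw [eκ, er, map_neg, map_inv₀, frob_frob hF, hs1]
    congr 1
    congr 1
    all_goals congr 1
    all_goals field_simp; ring
  have hgP : ∃ A : F, mat g *ᵥ Fr.u 0 = Fr.u 0 + A • Fr.e 0 := by
    refine ⟨-(σ s) ^ 2 / s ^ 2, ?_⟩
    conv_lhs => rw [show Fr.u 0 = (0 : F) • Fr.e 0 + (1 : F) • Fr.u 0 + (0 : F) • Fr.f 0 by module, act, O.vA hF,
      O.uA hF, O.vA hF, O.uiA hF, O.viA hF]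
    conv_rhs => rw [show Fr.u 0 + (-(σ s) ^ 2 / s ^ 2) • Fr.e 0 =
      (-(σ s) ^ 2 / s ^ 2) • Fr.e 0 + (1 : F) • Fr.u 0 + (0 : F) • Fr.f 0 by module]
    rw [eκ, er, map_neg, map_inv₀, frob_frob hF, hs1]
    congr 1
    congr 1
    all_goals congr 1
    all_goals field_simp; ring
  obtain ⟨A0, hgP⟩ := hgP
  set x := s + σ s / s - s / σ s with hxd
  have hgf : mat g *ᵥ Fr.f 0 = Fr.f 0 + μ ^ 2 • Fr.u 0 + x • Fr.e 0 := by
    conv_lhs => rw [show Fr.f 0 = (0 : F) • Fr.e 0 + (0 : F) • Fr.u 0 + (1 : F) • Fr.f 0 by module, act, O.vA hF,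
      O.uA hF, O.vA hF, O.uiA hF, O.viA hF]
    conv_rhs => rw [show Fr.f 0 + μ ^ 2 • Fr.u 0 + x • Fr.e 0 = x • Fr.e 0 + μ ^ 2 • Fr.u 0 + (1 : F) • Fr.f 0 by module]
    rw [hxd, hμd, eκ, er, map_neg, map_inv₀, frob_frob hF, hs1]
    congr 1
    congr 1
    all_goals congr 1
    all_goals field_simp; ring
  have hA := O.adm_of_word hF hgM hge hgP hgf
  have hμ0 : μ ≠ 0 := div_ne_zero hs0 hσs0
  have eσμ : σ μ = μ⁻¹ := by rw [hμd, map_div₀, frob_frob hF, inv_div]
  set ξ := σ (w : F) ^ 3 / (w : F) ^ 3 with hξd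
  have hμξ : μ = -ξ := by rw [hμd, eσs, hsd, hξd]; field_simp
  have hξinv : (w : F) ^ 3 / σ (w : F) ^ 3 = ξ⁻¹ := (inv_div _ _).symm
  have hξ0 : ξ ≠ 0 := div_ne_zero (pow_ne_zero 3 hsw0) (pow_ne_zero 3 hw0)
  set τ := μ + μ⁻¹ with hτd
  have hτξ : ξ + ξ⁻¹ = -τ := by rw [hτd, hμξ, inv_neg]; ring
  rw [hξinv, hτξ] at hgen hG
  have hμ4 : μ ^ 4 ≠ 1 := by rw [hμξ, (by decide : Even 4).neg_pow]; exact hξ4
  have hl : σ (μ ^ 2) ≠ μ ^ 2 := fun e => hμ4 (by
    rw [map_pow, eσμ] at e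
    field_simp at e
    linear_combination -e)
  have hseed := O.seed_comm hF hu hA
  set c0 := σ (μ ^ 2) - μ ^ 2 with hc0d
  have hc0s : c0 + σ c0 = 0 := by rw [hc0d, map_sub, frob_frob hF]; ring
  have hc00 : c0 ≠ 0 := sub_ne_zero.2 hl
  have eN : r * σ r = 2 + τ := by
    rw [er, map_inv₀, frob_frob hF, hτd, hμd, inv_div, hs1]
    field_simp
    linear_combination -((eq_div_iff (mul_ne_zero hd0 hw0)).1 hsd)
  have hτne : ∀ S : Subfield (fixK hF), (∀ z : fixK hF, (z : F) = τ → z ∈ S) → S = ⊤ := fun S hS => hgen S fun z hz => by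
    have := hS (-z) (by rw [NegMemClass.coe_neg, hz, neg_neg])
    simpa using S.neg_mem this
  by_cases h2 : (2 : F) = 0
  · have h1 : Um M (Fr.e 0) 0 1 := by
      have := sq_seed hF h2 (Fr.ee 0 0) (Fr.ue 0 0) (s := s) (by rw [Fr.uu]; linear_combination htr)
        (um_of_mem O.hu hu)
      rwa [Fr.uu] at this
    have hone : (1 : F) + σ 1 = 0 := by rw [map_one]; linear_combination h2
    have hc : c0 = τ ^ 2 := by
      rw [hc0d, hτd, map_pow, eσμ]
      linear_combination (-(μ ^ 2) - μ * μ⁻¹) * h2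
    have key : ∀ S : Subfield (fixK hF), (∀ z : fixK hF, (z : F) = c0 → z ∈ S) → S = ⊤ := fun S hS =>
      hτne S fun z hz => by
        have h3 : z ^ 2 ∈ S := hS _ (by push_cast; rw [hz, hc])
        haveI : Fintype S := Fintype.ofFinite _
        haveI : CharP S 2 := (RingHom.charP_iff (((fixK hF).subtype).comp S.subtype) (Subtype.val_injective.comp Subtype.val_injective) 2).2
          (CharTwo.of_one_ne_zero_of_two_eq_zero one_ne_zero h2)
        obtain ⟨y, hy⟩ := isSquare_of_charTwo' (⟨z ^ 2, h3⟩ : S)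
        have hy' : ((y : fixK hF) : F) * ((y : fixK hF) : F) = (z : F) ^ 2 :=
          (congrArg (fun a : S => ((a : fixK hF) : F)) hy).symm
        have : (y : fixK hF) = z := Subtype.ext (sub_eq_zero.1 (mul_self_eq_zero.1 (by
          linear_combination hy' + ((z : F) ^ 2 - (y : F) * (z : F)) * h2)))
        exact this ▸ y.2
    refine O.finish hF hn3 hq2 hu hv hr0 hA hl (c0 := 1) one_ne_zero hone h1 hone h1 one_ne_zero hc0s hseed
      (fun S a b => key S fun z hz => ?_) (fun hb => key ⊥ fun z hz => hb z (by rw [hz, div_one]))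
    have hN : r * σ r * 1 ∈ fixK hF := by
      show σ (r * σ r * 1) = r * σ r * 1
      rw [mul_one, map_mul, frob_frob hF, mul_comm]
    have hN0 : r * σ r * 1 ≠ 0 := by simp [hr0]
    have hm1 : (⟨r * σ r * 1, hN⟩ : fixK hF) ∈ S := a _ (by rw [one_mul])
    have hm2 : z * ⟨r * σ r * 1, hN⟩ ∈ S := b _ (by push_cast; rw [hz])
    have := S.div_mem hm2 hm1
    rwa [mul_div_cancel_right₀ _ (fun e => hN0 (congrArg Subtype.val e))] at this
  · have hζ : h (mat O.v *ᵥ Fr.e 0) (Fr.e 0) ≠ 0 := by rw [O.vε hF]; exact hr0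
    have P := pair_of hF (Fr.ee 0 0) hζ hc00 hc0s
    obtain ⟨J, hJ, hJ'⟩ := hasSc_neg hF P h2 (um_move_smul hF hseed hv hζ) hc00 hc0s hseed
    set y := (h (mat O.v *ᵥ Fr.e 0) (Fr.e 0))⁻¹ • mat O.v *ᵥ Fr.e 0 with hyd
    have hPy : h (Fr.u 0) y = -1 := by
      rw [hyd, O.vε hF, h_smul_right hF, show mat O.v *ᵥ Fr.e 0 = (1 : F) • Fr.e 0 + κ • Fr.u 0 + r • Fr.f 0 by
        rw [show Fr.e 0 = (1 : F) • Fr.e 0 + (0 : F) • Fr.u 0 + (0 : F) • Fr.f 0 by module, O.vA hF]
        module]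
      simp only [h_add_right hF, h_smul_right hF, Fr.ue, Fr.uu, Fr.uf, map_inv₀, eσκ, eσr]
      field_simp
      ring
    have hJe : mat J *ᵥ Fr.e 0 = (-1 : F) • Fr.e 0 := by
      rw [hJ', Fr.ee, P.ey hF]
      module
    have hJP : mat J *ᵥ Fr.u 0 = Fr.u 0 + (2 : F) • Fr.e 0 := by
      rw [hJ', Fr.ue, hPy]
      module
    have hU1 : Um M (Fr.e 0) (-(Fr.u 0 + (2 : F) • Fr.e 0)) s := by
      have := Um.move hF (um_of_mem O.hu hu) hJ
      rw [hJe, hJP] at this
      intro k hk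
      refine this k ?_
      rw [hk, umat_smul hF]
      simp [add_comm]
    have hneg : h (-(Fr.u 0 + (2 : F) • Fr.e 0)) (Fr.e 0) = 0 := by
      rw [← neg_one_smul F (Fr.u 0 + _), h_smul_left, h_add_left, h_smul_left, Fr.ue, Fr.ee]; ring
    have hiso : h (-(Fr.u 0 + (2 : F) • Fr.e 0)) (-(Fr.u 0 + (2 : F) • Fr.e 0)) + s + σ s = 0 := by
      rw [← neg_one_smul F (Fr.u 0 + _)]
      simp only [h_smul_left, h_smul_right hF, h_add_left, h_add_right hF, Fr.ue, Fr.ee, Fr.eu, Fr.uu, map_neg, map_one]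
      linear_combination htr
    have hU2 := Um.mul hF (Fr.ee 0 0) hneg (Fr.ue 0 0) hiso
      (show h (Fr.u 0) (Fr.u 0) + s + σ s = 0 by rw [Fr.uu]; linear_combination htr) hU1 (um_of_mem O.hu hu)
    rw [show -(Fr.u 0 + (2 : F) • Fr.e 0) + Fr.u 0 = (-2 : F) • Fr.e 0 by module] at hU2
    have h1 : Um M (Fr.e 0) 0 (s - σ s) := by
      intro k hk
      refine hU2 k ?_
      rw [hk, umat_self hF, ← neg_one_smul F (Fr.u 0 + _)]
      congr 1
      simp only [h_smul_right hF, h_add_right hF, Fr.ue, Fr.uu, map_neg, map_one, map_ofNat]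
      linear_combination -htr
    have hc1s : (s - σ s) + σ (s - σ s) = 0 := by rw [map_sub, frob_frob hF]; ring
    have hτ0 : τ ≠ 0 := fun e => hμ4 (by
      rw [hτd] at e
      field_simp at e
      linear_combination (μ ^ 2 - 1) * e)
    have hτ2 : τ + 2 ≠ 0 := fun e => by
      rw [add_comm, ← eN] at e
      simp [hr0] at e
    have hμ1 : μ + 1 ≠ 0 := fun e => hμ4 (by linear_combination (μ ^ 3 - μ ^ 2 + μ - 1) * e)
    have eμs : s = -μ / (μ + 1) := by
      rw [eq_div_iff hμ1, hμd, hs1]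
      field_simp
      ring
    have eG : c0 = (s - σ s) * (τ * (τ + 2)) := by
      rw [hc0d, hτd, map_pow, eσμ, hs1, eμs]
      field_simp
      ring
    have hG0 : τ * (τ + 2) ≠ 0 := mul_ne_zero hτ0 hτ2
    have hc10 : s - σ s ≠ 0 := fun e => hc00 (by rw [eG, e, zero_mul])
    have eD : (s - σ s) * (r * σ r * c0) = τ * (τ + 2) * (τ - 2) := by
      rw [eN, hc0d, hτd, map_pow, eσμ, hs1, eμs]
      field_simp
      ring
    have hτs : τ ∈ fixK hF := by
      show σ τ = τ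
      rw [hτd, map_add, map_inv₀, eσμ, inv_inv, add_comm]
    refine O.finish hF hn3 hq2 hu hv hr0 hA hl hc00 hc0s hseed hc1s h1 hc10 hc0s hseed
      (fun S a b => hτne S fun z hz => ?_) (fun hb => hG h2 fun z hz => hb z ?_)
    · obtain rfl : z = ⟨τ, hτs⟩ := Subtype.ext hz
      set G : fixK hF := ⟨τ, hτs⟩ * (⟨τ, hτs⟩ + 2) with hGd
      have eG' : (G : F) = τ * (τ + 2) := by rw [hGd]; rfl
      set T : fixK hF := ⟨τ, hτs⟩ - 2 with hTd
      have eT : (T : F) = τ - 2 := by rw [hTd]; rfl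
      have h1' : G * T ∈ S := a _ (by push_cast; rw [eG', eT, eD])
      have h2' : G * (G * T) ∈ S := b _ (by
        push_cast
        rw [eG', eT, ← eD]
        linear_combination -(r * σ r * c0) * eG)
      by_cases hT : T = 0
      · rw [hTd, sub_eq_zero] at hT
        rw [hT]
        exact natCast_mem S 2
      · have hG0' : G ≠ 0 := fun e => hG0 (by rw [← eG', e, ZeroMemClass.coe_zero])
        have h3 := S.div_mem h2' h1'
        rw [mul_div_cancel_right₀ _ (mul_ne_zero hG0' hT)] at h3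
        have h4 := S.div_mem h1' h3
        rw [mul_div_cancel_left₀ _ hG0'] at h4
        simpa [hTd] using S.add_mem h4 (natCast_mem S 2)
    · rw [hz, eq_div_iff hc10, eG]
      ring

include hF in
/-- Two conjugates generate away from the small fields. -/
theorem two_generate (hn3 : n = 3) (hq3 : 3 ≤ q) (hsp : q ≠ 3 ∧ q ≠ 5 ∧ q ≠ 8 ∧ q ≠ 11) :
    ∃ u g : Cfsg.SU n F q, ((mat u - 1) ^ 3 = 0 ∧ (mat u - 1) ^ 2 ≠ 0) ∧
      Subgroup.closure ({u, g * u * g⁻¹} : Set (Cfsg.SU n F q)) = ⊤ := by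
  obtain ⟨ω, hω, -⟩ := exists_gen hF
  set ξ := σ (ω : F) ^ 3 / (ω : F) ^ 3 with hξd
  have hω0 := ω.ne_zero
  have hξpow : ∀ k : ℕ, 0 < k → ξ ^ k = 1 → q + 1 ∣ 3 * k := fun k _ e => by
    rw [hξd, frob_apply, div_pow, div_eq_one_iff_eq (pow_ne_zero _ (pow_ne_zero _ hω0)), ← pow_mul, ← pow_mul,
      ← pow_mul] at e
    have h1 : ω ^ ((q - 1) * (3 * k)) = 1 := Units.ext (by
      rw [Units.val_pow_eq_pow_val, Units.val_one]
      refine mul_right_cancel₀ (pow_ne_zero (3 * k) hω0) ?_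
      rw [← pow_add, one_mul, show (q - 1) * (3 * k) + 3 * k = q * (3 * k) by
        rw [Nat.sub_mul, one_mul, Nat.sub_add_cancel (Nat.le_mul_of_pos_left _ (by omega))], e])
    have h2 := hω ▸ orderOf_dvd_of_pow_eq_one h1
    rw [show q ^ 2 - 1 = (q - 1) * (q + 1) by rw [mul_comm, ← Nat.sq_sub_sq, one_pow]] at h2
    exact Nat.dvd_of_mul_dvd_mul_left (by omega) h2
  have hnorm : ξ * σ ξ = 1 := by
    rw [hξd, map_div₀, map_pow, map_pow, frob_frob hF]
    field_simp
  have hinv : σ ξ = ξ⁻¹ := eq_inv_of_mul_eq_one_right hnorm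
  have hord : ∀ k : ℕ, 0 < k → 3 * k < q + 1 → ξ ^ k ≠ 1 := fun k hk hlt e => by
    have := Nat.le_of_dvd (by omega) (hξpow k hk e)
    omega
  have hξ4 : ξ ^ 4 ≠ 1 := fun e => by
    have h1 := hξpow 4 (by norm_num) e
    have h2 := Nat.le_of_dvd (by norm_num) h1
    obtain ⟨c, hc⟩ := h1
    have : q ≤ 11 := by omega
    obtain ⟨m, hm⟩ : ∃ m, m = q + 1 := ⟨_, rfl⟩
    have h1 : q + 1 ∣ 12 := ⟨c, hc⟩
    rw [← hm] at h1
    have : m ≤ 12 := by omega
    have : 5 ≤ m := by omega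
    interval_cases m <;> omega
  have hgen : ∀ S : Subfield (fixK hF), (∀ z : fixK hF, (z : F) = ξ + ξ⁻¹ → z ∈ S) → S = ⊤ := fun S hS =>
    trace_gen hF hnorm hord hsp.2.2.1 (by omega) S fun z hz => hS z (by rw [hz, hinv])
  have hne : ∀ {w : Fˣ}, (σ (w : F) ^ 3 / (w : F) ^ 3) ^ 4 ≠ 1 → σ (w : F) ^ 3 ≠ (w : F) ^ 3 := fun hh e => hh (by
    rw [e, div_self (pow_ne_zero 3 (Units.ne_zero _)), one_pow])
  have hi : (ω : F) ^ 3 / σ (ω : F) ^ 3 = ξ⁻¹ := (inv_div _ _).symm
  by_cases hb : (2 : F) = 0 ∨ ((∀ z : fixK hF, (z : F) = (ξ + ξ⁻¹) * (ξ + ξ⁻¹ - 2) → z ∈ (⊥ : Subfield (fixK hF))) →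
      (⊥ : Subfield (fixK hF)) = ⊤)
  · refine two_generic hF hn3 (by omega) (w := ω) (hne hξ4) hξ4 (by rw [hi]; exact hgen) fun h2 => ?_
    rw [hi]
    exact hb.resolve_left h2
  · push Not at hb
    obtain ⟨h2, hGm, hbot⟩ := hb
    obtain ⟨d0, hd00, hd0⟩ := exists_skew hF
    set w : Fˣ := ω * Units.mk0 d0 hd00 with hwd
    have e1 : σ (w : F) ^ 3 / (w : F) ^ 3 = -ξ := by
      rw [hwd, Units.val_mul, Units.val_mk0, map_mul, show σ d0 = -d0 by linear_combination hd0, hξd]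
      field_simp
    have e2 : (w : F) ^ 3 / σ (w : F) ^ 3 = -ξ⁻¹ := by rw [← inv_div, e1, inv_neg]
    have h4 : (σ (w : F) ^ 3 / (w : F) ^ 3) ^ 4 ≠ 1 := by rw [e1, (by decide : Even 4).neg_pow]; exact hξ4
    refine two_generic hF hn3 (by omega) (w := w) (hne h4) h4 (fun S hS => hgen S fun z hz => ?_) fun _ hG' => ?_
    · have := hS (-z) (by rw [NegMemClass.coe_neg, hz, e1, e2]; ring)
      simpa using S.neg_mem this
    · refine hgen ⊥ fun z hz => ?_
      have ha : z * (z - 2) ∈ (⊥ : Subfield (fixK hF)) := hGm _ (by rw [← hz]; rfl)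
      have hb' : -z * (-z - 2) ∈ (⊥ : Subfield (fixK hF)) := hG' _ (by
        show -(z : F) * (-(z : F) - 2) = _
        rw [hz, e1, e2]; ring)
      have h4ne : (4 : fixK hF) ≠ 0 := fun e => h2 (by
        have := congrArg Subtype.val e
        change (4 : F) = 0 at this
        exact mul_self_eq_zero.1 (by linear_combination this))
      have : z = (-z * (-z - 2) - z * (z - 2)) / 4 := by field_simp; ring
      rw [this]
      exact Subfield.div_mem _ (Subfield.sub_mem _ hb' ha) (ofNat_mem _ 4)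

end CfsgLib.UnitReg
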