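import Cfsg.Agent.Lib.UnitReg.TwoGeneric
import Mathlib.FieldTheory.Finite.Basic

/-!
# Two conjugates in dimension three: four small fields
-/

set_option autoImplicit false
set_option linter.unusedSectionVars false
set_option maxHeartbeats 800000

namespace CfsgLib.UnitReg

open Matrix CfsgLib.UnitaryTransvection CfsgLib.UnitarySimple CfsgLib.TwoGenCl.Unit

/-- Operations for computing in a small field. -/
structure Ops (K : Type) where
  ad : K → K → K
  ml : K → K → K
  ng : K → K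
  sj : K → K
  one : K
  zero : K

/-- The prime field. -/
def baseOps (p : ℕ) : Ops (ZMod p) := ⟨(· + ·), (· * ·), (- ·), id, 1, 0⟩

/-- A cubic step with trivial conjugation, root of `X³ + X + 1`. -/
def cubicOps {R : Type} (O : Ops R) : Ops (R × R × R) where
  ad a b := (O.ad a.1 b.1, O.ad a.2.1 b.2.1, O.ad a.2.2 b.2.2)
  ml a b :=
    let c0 := O.ml a.1 b.1
    let c1 := O.ad (O.ml a.1 b.2.1) (O.ml a.2.1 b.1)
    let c2 := O.ad (O.ad (O.ml a.1 b.2.2) (O.ml a.2.1 b.2.1)) (O.ml a.2.2 b.1)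
    let c3 := O.ad (O.ml a.2.1 b.2.2) (O.ml a.2.2 b.2.1)
    let c4 := O.ml a.2.2 b.2.2
    (O.ad c0 (O.ng c3), O.ad c1 (O.ng (O.ad c3 c4)), O.ad c2 (O.ng c4))
  ng a := (O.ng a.1, O.ng a.2.1, O.ng a.2.2)
  sj a := a
  one := (O.one, O.zero, O.zero)
  zero := (O.zero, O.zero, O.zero)

/-- A quadratic step, root of `X² + b X + a`, conjugate to the other root. -/
def quadOps {R : Type} (O : Ops R) (a b : R) : Ops (R × R) where
  ad x y := (O.ad x.1 y.1, O.ad x.2 y.2)
  ml x y := (O.ad (O.ml x.1 y.1) (O.ng (O.ml a (O.ml x.2 y.2))),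
    O.ad (O.ad (O.ml x.1 y.2) (O.ml x.2 y.1)) (O.ng (O.ml b (O.ml x.2 y.2))))
  ng x := (O.ng x.1, O.ng x.2)
  sj x := (O.ad (O.sj x.1) (O.ng (O.ml b (O.sj x.2))), O.ng (O.sj x.2))
  one := (O.one, O.zero)
  zero := (O.zero, O.zero)

/-- The letters of a word in the pair. -/
inductive Ltr
  | u | U | v | V

/-- The constants of a certificate. -/
structure Cert (K : Type) where
  s : K
  c : K
  ci : K
  kap : K
  r : K
  ri : K
  A : K
  B : K
  x : K
  di : K
  wd : List Ltr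

variable {K : Type}

/-- The action of a letter on coordinates. -/
def Ops.step (o : Ops K) (C : Cert K) : Ltr → K × K × K → K × K × K
  | .u, (A, B, Z) => (o.ad (o.ad A (o.ng B)) (o.ml C.s Z), o.ad B Z, Z)
  | .U, (A, B, Z) => (o.ad (o.ad A B) (o.ml (o.sj C.s) Z), o.ad B (o.ng Z), Z)
  | .v, (A, B, Z) => (A, o.ad B (o.ml C.kap A), o.ad (o.ad Z (o.ng (o.ml (o.sj C.kap) B))) (o.ml C.r A))
  | .V, (A, B, Z) => (A, o.ad B (o.ng (o.ml C.kap A)), o.ad (o.ad Z (o.ml (o.sj C.kap) B)) (o.ml (o.sj C.r) A))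

/-- The action of a word on coordinates. -/
def Ops.run (o : Ops K) (C : Cert K) (w : List Ltr) (x : K × K × K) : K × K × K := w.foldr (o.step C) x

/-- What a certificate has to satisfy. -/
structure Cert.Valid (o : Ops K) (C : Cert K) : Prop where
  trs : o.ad C.s (o.sj C.s) = o.ng o.one
  hci : o.ml C.c C.ci = o.one
  hkap : o.ml C.kap C.c = o.ng (o.ml (o.sj C.c) (o.sj C.c))
  hr : C.r = o.ml (o.ml C.c (o.sj C.c)) C.s
  hri : o.ml C.r C.ri = o.one
  hdi : o.ml (o.ad (o.sj C.B) (o.ng C.B)) C.di = o.one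
  he : o.run C C.wd (o.one, o.zero, o.zero) = (o.one, o.zero, o.zero)
  hP : o.run C C.wd (o.zero, o.one, o.zero) = (C.A, o.one, o.zero)
  hf : o.run C C.wd (o.zero, o.zero, o.one) = (C.x, C.B, o.one)

variable {F : Type*} [Field F] [Fintype F] {q n : ℕ} (hF : Fintype.card F = q ^ 2)

local notation "h" => Cfsg.hermForm n F q
local notation "σ" => frob hF

/-- The operations are those of the field. -/
structure Interp (o : Ops K) (φ : K → F) : Prop where
  ad : ∀ a b, φ (o.ad a b) = φ a + φ b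
  ml : ∀ a b, φ (o.ml a b) = φ a * φ b
  ng : ∀ a, φ (o.ng a) = -φ a
  sj : ∀ a, φ (o.sj a) = σ (φ a)
  one : φ o.one = 1
  zero : φ o.zero = 0

theorem Interp.ne_zero {o : Ops K} {φ : K → F} (I : Interp hF o φ) {a b : K} (e : o.ml a b = o.one) : φ a ≠ 0 :=
  fun e0 => one_ne_zero (α := F) (by rw [← I.one, ← e, I.ml, e0, zero_mul])

include hF in
theorem interp_base (p : ℕ) [CharP F p] : Interp hF (baseOps p) (ZMod.castHom (dvd_refl p) F) where
  ad a b := map_add _ a b
  ml a b := map_mul _ a b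
  ng a := map_neg _ a
  sj a := RingHom.congr_fun (RingHom.ext_zmod (ZMod.castHom (dvd_refl p) F) ((σ : F →+* F).comp _)) a
  one := map_one _
  zero := map_zero _

theorem interp_quad {R : Type} {o : Ops R} {φ : R → F} (I : Interp hF o φ) {a b : R} {ω : F}
    (hω : ω ^ 2 + φ b * ω + φ a = 0) (hσ : σ ω = -φ b - ω) :
    Interp hF (quadOps o a b) (fun x => φ x.1 + φ x.2 * ω) where
  ad x y := by simp only [quadOps, I.ad]; ring
  ml x y := by simp only [quadOps, I.ad, I.ml, I.ng]; linear_combination -(φ x.2 * φ y.2) * hω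
  ng x := by simp only [quadOps, I.ng]; ring
  sj x := by simp only [quadOps, I.ad, I.ml, I.ng, I.sj, map_add, map_mul, hσ]; ring
  one := by simp only [quadOps, I.one, I.zero]; ring
  zero := by simp only [quadOps, I.zero]; ring

theorem interp_cubic {R : Type} {o : Ops R} {φ : R → F} (I : Interp hF o φ) (hfix : ∀ a, σ (φ a) = φ a) {β : F}
    (hβ : β ^ 3 + β + 1 = 0) (hσ : σ β = β) :
    Interp hF (cubicOps o) (fun x => φ x.1 + φ x.2.1 * β + φ x.2.2 * β ^ 2) where
  ad x y := by simp only [cubicOps, I.ad]; ring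
  ml x y := by
    simp only [cubicOps, I.ad, I.ml, I.ng]
    linear_combination -(φ x.2.1 * φ y.2.2 + φ x.2.2 * φ y.2.1 + φ x.2.2 * φ y.2.2 * β) * hβ
  ng x := by simp only [cubicOps, I.ng]; ring
  sj x := by simp only [cubicOps, map_add, map_mul, map_pow, hσ, hfix]
  one := by simp only [cubicOps, I.one, I.zero]; ring
  zero := by simp only [cubicOps, I.zero]; ring

variable {Fr : Frame F q n 1 1}

/-- A valid certificate gives a pair with a component. -/
theorem pair_of_cert {o : Ops K} {φ : K → F} (I : Interp hF o φ) {C : Cert K} (V : C.Valid o) :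
    ∃ (κ : F) (O : Opp hF Fr (φ C.s) κ (φ C.r)), φ C.r ≠ 0 ∧ σ (φ C.B) ≠ φ C.B ∧
      Adm hF (Subgroup.closure ({O.u, O.v} : Set (Cfsg.SU n F q))) (Fr.e 0)
        (φ C.B • Fr.u 0 + φ C.x • Fr.e 0) := by
  obtain ⟨d, hd0, hd⟩ := exists_skew hF
  have hσd : σ d = -d := by linear_combination hd
  have hc0 : φ C.c ≠ 0 := I.ne_zero hF V.hci
  have hsc0 : σ (φ C.c) ≠ 0 := by simpa using hc0
  set w : Fˣ := Units.mk0 (σ d / σ (φ C.c)) (div_ne_zero (by simpa using hd0) hsc0) with hwd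
  have htr : φ C.s + σ (φ C.s) = -1 := by rw [← I.sj, ← I.ad, V.trs, I.ng, I.one]
  obtain ⟨O0⟩ := exists_opp hF (Fr := Fr) hd0 hd w htr
  have hk : φ C.kap * φ C.c = -(σ (φ C.c) * σ (φ C.c)) := by rw [← I.ml, V.hkap, I.ng, I.ml, I.sj]
  have e1 : σ d * σ (w : F) / ((w : F) * (w : F)) = φ C.kap := by
    rw [hwd, Units.val_mk0, map_div₀, frob_frob hF, frob_frob hF, hσd]
    field_simp
    linear_combination -hk
  have e2 : d * σ d / ((w : F) * σ (w : F)) * φ C.s = φ C.r := by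
    rw [V.hr, I.ml, I.ml, I.sj, hwd, Units.val_mk0, map_div₀, frob_frob hF, frob_frob hF, hσd]
    field_simp
  obtain ⟨O, -⟩ : ∃ O : Opp hF Fr (φ C.s) (φ C.kap) (φ C.r), True := ⟨e2 ▸ e1 ▸ O0, trivial⟩
  have hr0 : φ C.r ≠ 0 := I.ne_zero hF V.hri
  have hl : σ (φ C.B) ≠ φ C.B := fun e => I.ne_zero hF V.hdi (by rw [I.ad, I.sj, I.ng, e, add_neg_cancel])
  refine ⟨_, O, hr0, hl, ?_⟩
  set M := Subgroup.closure ({O.u, O.v} : Set (Cfsg.SU n F q))
  have hu : O.u ∈ M := Subgroup.subset_closure (by simp)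
  have hv : O.v ∈ M := Subgroup.subset_closure (by simp)
  let V3 : K × K × K → (Fin n → F) := fun x => φ x.1 • Fr.e 0 + φ x.2.1 • Fr.u 0 + φ x.2.2 • Fr.f 0
  have hw : ∀ l : List Ltr, ∃ g ∈ M, ∀ x, mat g *ᵥ V3 x = V3 (o.run C l x) := by
    intro l
    induction l with
    | nil => exact ⟨1, M.one_mem, fun x => by simp [Ops.run, mat]⟩
    | cons a l ih =>
      obtain ⟨g, hg, e⟩ := ih
      cases a
      · refine ⟨O.u * g, M.mul_mem hu hg, fun x => ?_⟩
        rw [mat_mul, ← mulVec_mulVec, e]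
        simp only [V3, Ops.run, List.foldr_cons, Ops.step, O.uA hF, I.ad, I.ml, I.ng]
        module
      · refine ⟨O.u⁻¹ * g, M.mul_mem (M.inv_mem hu) hg, fun x => ?_⟩
        rw [mat_mul, ← mulVec_mulVec, e]
        simp only [V3, Ops.run, List.foldr_cons, Ops.step, O.uiA hF, I.ad, I.ml, I.ng, I.sj]
        module
      · refine ⟨O.v * g, M.mul_mem hv hg, fun x => ?_⟩
        rw [mat_mul, ← mulVec_mulVec, e]
        simp only [V3, Ops.run, List.foldr_cons, Ops.step, O.vA hF, I.ad, I.ml, I.ng, I.sj]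
        module
      · refine ⟨O.v⁻¹ * g, M.mul_mem (M.inv_mem hv) hg, fun x => ?_⟩
        rw [mat_mul, ← mulVec_mulVec, e]
        simp only [V3, Ops.run, List.foldr_cons, Ops.step, O.viA hF, I.ad, I.ml, I.ng, I.sj]
        module
  obtain ⟨g, hg, e⟩ := hw C.wd
  refine O.adm_of_word hF (A := φ C.A) hg ?_ ?_ ?_
  · simpa [V3, I.one, I.zero, V.he] using e (o.one, o.zero, o.zero)
  · have := e (o.zero, o.one, o.zero)
    simp only [V3, V.hP, I.one, I.zero, zero_smul, one_smul, zero_add, add_zero] at this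
    rw [this]; abel
  · have := e (o.zero, o.zero, o.one)
    simp only [V3, V.hf, I.one, I.zero, zero_smul, one_smul, zero_add, add_zero] at this
    rw [this]; abel

include hF in
theorem charP_of_card {p k : ℕ} (hp : p.Prime) (hq : q = p ^ k) : CharP F p := by
  obtain ⟨p', f, hp', hf, hc, hqp⟩ := exists_char_pow hF
  have h1 : p' = p := (Nat.prime_dvd_prime_iff_eq hp' hp).1
    (hp'.dvd_of_dvd_pow (n := k) (by rw [← hq, hqp]; exact dvd_pow_self p' (by omega)))
  exact h1 ▸ hc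

/-- The fixed field of a prime power that is prime. -/
theorem fixK_prime {p : ℕ} [Fact p.Prime] [CharP F p] (hq : q = p) (S : Subfield (fixK hF)) : S = ⊤ := by
  haveI : CharP (fixK hF) p := (RingHom.charP_iff ((fixK hF).subtype) Subtype.val_injective p).2 inferInstance
  refine eq_top_iff.2 fun z _ => (bot_le : ⊥ ≤ S) ((Subfield.mem_bot_iff_pow_eq_self (p := p) (x := z)).2 ?_)
  exact Subtype.ext (by
    have : σ (z : F) = z := z.2
    rw [frob_apply] at this
    rw [SubmonoidClass.coe_pow]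
    exact (congrArg (fun k => (z : F) ^ k) hq.symm).trans this)

include hF in
/-- Quadratic extensions of odd prime fields. -/
theorem quad_root {p : ℕ} [Fact p.Prime] [CharP F p] (hq : q = p) (hp2 : p ≠ 2) (a b D t : ZMod p) (ht : 2 * t = 1)
    (hD : D = b * b - 4 * a) (hD1 : D ^ (p / 2) = -1) :
    ∃ ω : F, ω ^ 2 + ZMod.castHom (dvd_refl p) F b * ω + ZMod.castHom (dvd_refl p) F a = 0 ∧
      σ ω = -ZMod.castHom (dvd_refl p) F b - ω := by
  set φ := ZMod.castHom (dvd_refl p) F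
  have hodd : p = 2 * (p / 2) + 1 := by
    rcases (Fact.out : p.Prime).eq_two_or_odd with e | e <;> omega
  have hF2 : ringChar F ≠ 2 := by rw [ringChar.eq F p]; exact hp2
  have hD0 : D ≠ 0 := fun e => by
    rw [e, zero_pow (by have := (Fact.out : p.Prime).two_le; omega)] at hD1
    exact one_ne_zero (neg_eq_zero.1 hD1.symm)
  have hsq : IsSquare (φ D) := by
    refine (FiniteField.isSquare_iff hF2 (fun e => hD0 (φ.injective (e.trans (map_zero φ).symm)))).2 ?_
    have h1 : (p ^ 2) / 2 = p / 2 * (p + 1) := by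
      generalize p / 2 = m at hodd
      subst hodd
      have : (2 * m + 1) ^ 2 = 2 * (m * (2 * m + 1 + 1)) + 1 := by ring
      omega
    have h2 : Even (p + 1) := ⟨p / 2 + 1, by omega⟩
    rw [hF, hq, h1, pow_mul, ← map_pow, hD1, map_neg, map_one, h2.neg_one_pow]
  obtain ⟨δ, hδ⟩ := hsq
  have hσδ : σ δ = -δ := by
    rw [frob_apply, hq, hodd, pow_succ, pow_mul, pow_two, ← hδ, ← map_pow, hD1, map_neg, map_one, neg_one_mul]
  have hσt : ∀ z : ZMod p, σ (φ z) = φ z := fun z => ((interp_base hF p).sj z).symm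
  have et : (2 : F) * φ t = 1 := by rw [← map_ofNat φ 2, ← map_mul, ht, map_one]
  rw [hD, map_sub, map_mul, map_mul, map_ofNat] at hδ
  refine ⟨φ t * (δ - φ b), ?_, ?_⟩
  · linear_combination -(φ t) ^ 2 * hδ + (-(φ t * φ b * (δ - φ b)) - φ a * (2 * φ t + 1)) * et
  · rw [map_mul, map_sub, hσt, hσt, hσδ]
    linear_combination φ b * (-1 : F) * et

include hF in
/-- The two fields of prime order. -/
theorem two_prime {p : ℕ} [Fact p.Prime] [CharP F p] (hn3 : n = 3) (hq : q = p) (hp2 : p ≠ 2) (a b D t : ZMod p)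
    (ht : 2 * t = 1) (hD : D = b * b - 4 * a) (hD1 : D ^ (p / 2) = -1) (C : Cert (ZMod p × ZMod p))
    (V : C.Valid (quadOps (baseOps p) a b)) :
    ∃ u g : Cfsg.SU n F q, ((mat u - 1) ^ 3 = 0 ∧ (mat u - 1) ^ 2 ≠ 0) ∧
      Subgroup.closure ({u, g * u * g⁻¹} : Set (Cfsg.SU n F q)) = ⊤ := by
  obtain ⟨Fr⟩ := exists_frame hF (n := n) 1 1 (by omega)
  obtain ⟨ω, hω, hσ⟩ := quad_root hF hq hp2 a b D t ht hD hD1
  obtain ⟨κ, O, hr0, hl, hA⟩ := pair_of_cert hF (Fr := Fr) (interp_quad hF (interp_base hF p) hω hσ) V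
  refine ⟨O.u, O.θ, O.regular hF, ?_⟩
  rw [← O.conj]
  have hu : O.u ∈ Subgroup.closure ({O.u, O.v} : Set (Cfsg.SU n F q)) := Subgroup.subset_closure (by simp)
  have hv : O.v ∈ Subgroup.closure ({O.u, O.v} : Set (Cfsg.SU n F q)) := Subgroup.subset_closure (by simp)
  have hs := O.seed_comm hF hu hA
  have hc : ∀ y : F, (σ y - y) + σ (σ y - y) = 0 := fun y => by rw [map_sub, frob_frob hF]; ring
  exact O.finish hF hn3 (by omega) hu hv hr0 hA hl (sub_ne_zero.2 hl) (hc _) hs (hc _) hs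
    (sub_ne_zero.2 hl) (hc _) hs
    (fun S _ _ => fixK_prime hF hq S) (fun _ => fixK_prime hF hq _)

include hF in
theorem card_fixK_le : Nat.card (fixK hF) ≤ q := by
  classical
  have hsub : (Finset.univ.filter fun z : F => σ z = z) ⊆ (Polynomial.X ^ q - Polynomial.X : Polynomial F).roots.toFinset := by
    intro z hz
    rw [Finset.mem_filter, frob_apply] at hz
    rw [Multiset.mem_toFinset, Polynomial.mem_roots (FiniteField.X_pow_card_sub_X_ne_zero F
      (UnitaryBasic.frob_exists hF).1)]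
    simp [hz.2]
  have h1 := (Finset.card_le_card hsub).trans (Multiset.toFinset_card_le _)
  have h2 := h1.trans (Polynomial.card_roots' _)
  rw [FiniteField.X_pow_card_sub_X_natDegree_eq F (UnitaryBasic.frob_exists hF).1] at h2
  rw [Nat.card_eq_fintype_card, Fintype.card_subtype]
  exact h2

/-- In the field with eight elements, an element other than zero and one generates. -/
theorem eight_top (hq : q = 8) (S : Subfield (fixK hF)) {t : fixK hF} (ht : t ∈ S) (h0 : t ≠ 0) (h1 : t ≠ 1) :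
    S = ⊤ := by
  by_contra hne
  obtain ⟨x, hx⟩ : ∃ x, x ∉ S := by
    by_contra hc
    push Not at hc
    exact hne (eq_top_iff.2 fun x _ => hc x)
  have hinj : Function.Injective fun z : S × S => (z.1 : fixK hF) + z.2 * x := by
    rintro ⟨a, b⟩ ⟨a', b'⟩ e
    simp only at e
    rcases eq_or_ne b b' with rfl | hb
    · rw [Subtype.ext (add_right_cancel e)]
    · refine absurd ?_ hx
      have hb' : ((b : fixK hF) - b') ≠ 0 := sub_ne_zero.2 fun e0 => hb (Subtype.ext e0)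
      rw [show x = ((a' : fixK hF) - a) / ((b : fixK hF) - b') by field_simp; linear_combination e]
      exact S.div_mem (S.sub_mem a'.2 a.2) (S.sub_mem b.2 b'.2)
  have hle := (Nat.card_le_card_of_injective _ hinj).trans (card_fixK_le hF)
  rw [Nat.card_prod] at hle
  replace hle := hle.trans hq.le
  have h3 : 3 ≤ Nat.card S := by
    let f : Fin 3 → S := ![0, 1, ⟨t, ht⟩]
    have hf : Function.Injective f := by
      intro i j e
      replace e := congrArg Subtype.val e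
      fin_cases i <;> fin_cases j <;> simp_all [f, eq_comm]
    simpa using Nat.card_le_card_of_injective f hf
  nlinarith

/-- Finishing with eight fixed elements. -/
theorem eight_finish {o : Ops K} {φ : K → F} (I : Interp hF o φ) {C : Cert K} (V : C.Valid o) (b : K)
    (hb : o.ml (o.ad (o.ad (o.sj C.B) (o.ng C.B)) (o.ng o.one)) b = o.one) (h2 : (2 : F) = 0) (hn3 : n = 3)
    (hq : q = 8) : ∃ u g : Cfsg.SU n F q, ((mat u - 1) ^ 3 = 0 ∧ (mat u - 1) ^ 2 ≠ 0) ∧
      Subgroup.closure ({u, g * u * g⁻¹} : Set (Cfsg.SU n F q)) = ⊤ := by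
  obtain ⟨Fr⟩ := exists_frame hF (n := n) 1 1 (by omega)
  obtain ⟨κ, O, hr0, hl, hA⟩ := pair_of_cert hF (Fr := Fr) I V
  refine ⟨O.u, O.θ, O.regular hF, ?_⟩
  rw [← O.conj]
  set M := Subgroup.closure ({O.u, O.v} : Set (Cfsg.SU n F q))
  have hu : O.u ∈ M := Subgroup.subset_closure (by simp)
  have hv : O.v ∈ M := Subgroup.subset_closure (by simp)
  have hs := O.seed_comm hF hu hA
  have h1 : Um M (Fr.e 0) 0 1 := by
    have := sq_seed hF h2 (Fr.ee 0 0) (Fr.ue 0 0) (by rw [Fr.uu]; linear_combination O.trs) (um_of_mem O.hu hu)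
    rwa [Fr.uu] at this
  have h11 : (1 : F) + σ 1 = 0 := by rw [map_one]; linear_combination h2
  set c := σ (φ C.B) - φ C.B with hcd
  have hc : c + σ c = 0 := by rw [hcd, map_sub, frob_frob hF]; ring
  have hcK : c ∈ fixK hF := by
    show σ c = c
    linear_combination hc - c * h2
  have hc1 : c ≠ 1 := fun e => I.ne_zero hF hb (by
    rw [I.ad, I.ad, I.ng, I.ng, I.sj, I.one]
    linear_combination e - hcd)
  have key : ∀ S : Subfield (fixK hF), (∀ z : fixK hF, (z : F) = c → z ∈ S) → S = ⊤ := fun S hS =>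
    eight_top hF hq S (hS ⟨c, hcK⟩ rfl) (fun e => sub_ne_zero.2 hl (congrArg Subtype.val e))
      (fun e => hc1 (congrArg Subtype.val e))
  refine O.finish hF hn3 (by omega) hu hv hr0 hA hl one_ne_zero h11 h1 h11 h1 one_ne_zero hc hs
    (fun S a b' => key S fun z hz => ?_) (fun hbot => key ⊥ fun z hz => hbot z (by rw [hz, div_one]))
  have hN : φ C.r * σ (φ C.r) * 1 ∈ fixK hF := by
    show σ (φ C.r * σ (φ C.r) * 1) = φ C.r * σ (φ C.r) * 1
    rw [mul_one, map_mul, frob_frob hF, mul_comm]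
  have hN0 : φ C.r * σ (φ C.r) * 1 ≠ 0 := by simp [hr0]
  have hm1 : (⟨_, hN⟩ : fixK hF) ∈ S := a _ (by rw [one_mul])
  have hm2 : z * ⟨_, hN⟩ ∈ S := b' _ (by push_cast; rw [hz])
  have := S.div_mem hm2 hm1
  rwa [mul_div_cancel_right₀ _ (fun e => hN0 (congrArg Subtype.val e))] at this

include hF in
/-- The field of order sixty four. -/
theorem two_eight (hn3 : n = 3) (hq : q = 8) :
    ∃ u g : Cfsg.SU n F q, ((mat u - 1) ^ 3 = 0 ∧ (mat u - 1) ^ 2 ≠ 0) ∧
      Subgroup.closure ({u, g * u * g⁻¹} : Set (Cfsg.SU n F q)) = ⊤ := by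
  haveI : CharP F 2 := charP_of_card hF Nat.prime_two (hq.trans (by norm_num : (8 : ℕ) = 2 ^ 3))
  have h2 : (2 : F) = 0 := CharTwo.two_eq_zero
  obtain ⟨γ, hγ, -⟩ := exists_gen hF
  rw [hq] at hγ
  set ω : F := ((γ ^ 21 : Fˣ) : F) with hωd
  set ε : F := ((γ ^ 9 : Fˣ) : F) with hεd
  have hω3 : ω ^ 3 = 1 := by
    rw [hωd, ← Units.val_pow_eq_pow_val, ← pow_mul, show 21 * 3 = orderOf γ by rw [hγ]; norm_num,
      pow_orderOf_eq_one, Units.val_one]
  have hε7 : ε ^ 7 = 1 := by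
    rw [hεd, ← Units.val_pow_eq_pow_val, ← pow_mul, show 9 * 7 = orderOf γ by rw [hγ]; norm_num,
      pow_orderOf_eq_one, Units.val_one]
  have hne : ∀ k, 0 < k → k < 63 → ((γ ^ k : Fˣ) : F) ≠ 1 := fun k hk hk' e =>
    pow_ne_one_of_lt_orderOf (by omega) (by rw [hγ]; norm_num; omega) (Units.val_eq_one.1 e)
  have hω1 : ω ≠ 1 := hne 21 (by omega) (by omega)
  have hε1 : ε ≠ 1 := hne 9 (by omega) (by omega)
  have hω : ω ^ 2 + (1 : F) * ω + 1 = 0 :=
    (mul_eq_zero.1 (show (ω - 1) * (ω ^ 2 + 1 * ω + 1) = 0 by linear_combination hω3)).resolve_left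
      (sub_ne_zero.2 hω1)
  obtain ⟨β, hβ, hβ7⟩ : ∃ β : F, β ^ 3 + β + 1 = 0 ∧ β ^ 7 = 1 := by
    have : (ε - 1) * ((ε ^ 3 + ε + 1) * (ε ^ 3 + ε ^ 2 + 1)) = 0 := by
      linear_combination hε7 + (ε ^ 4 - ε ^ 3) * h2
    rcases mul_eq_zero.1 ((mul_eq_zero.1 this).resolve_left (sub_ne_zero.2 hε1)) with e | e
    · exact ⟨ε, e, hε7⟩
    · have hε0 : ε ≠ 0 := fun e0 => by rw [e0] at hε7; simp at hε7
      refine ⟨ε⁻¹, ?_, by rw [inv_pow, hε7, inv_one]⟩
      field_simp
      linear_combination e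
  have hσω : σ ω = -1 - ω := by
    rw [frob_apply, hq]
    linear_combination (ω ^ 5 + ω ^ 2) * hω3 + hω
  have hσβ : σ β = β := by
    rw [frob_apply, hq]
    linear_combination β * hβ7
  have I0 := interp_base hF 2
  have I1 := interp_cubic hF I0 (fun a => (I0.sj a).symm) hβ hσβ
  have I := interp_quad hF (a := ((1, 0, 0) : ZMod 2 × ZMod 2 × ZMod 2)) (b := (1, 0, 0)) I1 (ω := ω)
    (by simpa using hω) (by simpa using hσω)
  let C : Cert ((ZMod 2 × ZMod 2 × ZMod 2) × (ZMod 2 × ZMod 2 × ZMod 2)) :=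
    { s := ((0, 1, 1), (1, 0, 0)), c := ((1, 0, 1), (1, 1, 1)), ci := ((1, 0, 0), (0, 1, 1)),
      kap := ((0, 1, 1), (0, 1, 1)), r := ((1, 1, 1), (0, 1, 0)), ri := ((1, 1, 1), (1, 0, 0)),
      A := ((0, 1, 0), (0, 1, 1)), B := ((0, 0, 1), (0, 1, 1)), x := ((1, 0, 1), (1, 0, 0)),
      di := ((1, 1, 0), (0, 0, 0)), wd := [.V, .V, .u, .v, .U, .v, .U, .V, .u, .u, .v] }
  have V : C.Valid (quadOps (cubicOps (baseOps 2)) (1, 0, 0) (1, 0, 0)) := by
    constructor <;> decide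
  exact eight_finish hF I V ((0, 0, 1), (0, 0, 0)) (by decide) h2 hn3 hq

end CfsgLib.UnitReg
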